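import Cfsg.Agent.H31.MinGen
import Cfsg.Agent.H13.SzSub3
import Cfsg.Agent.H54.FT

/-! Reduction tools for solvability criteria in terms of two-generated subgroups. -/

set_option autoImplicit false
set_option linter.style.haveILetI false

namespace Cfsg.Agent.H31

open Subgroup

variable {G H : Type*} [Group G] [Group H]

/-- the subgroup generated by `a, b` is solvable -/
abbrev Sol2 (a b : G) : Prop := Group.IsSolvable (closure ({a, b} : Set G))

theorem closure_pair_map (f : G →* H) (a b : G) :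
    (closure ({a, b} : Set G)).map f = closure ({f a, f b} : Set H) := by
  rw [MonoidHom.map_closure, Set.image_pair]

theorem solvable_map (f : G →* H) {K : Subgroup G} (h : Group.IsSolvable K) :
    Group.IsSolvable (K.map f) :=
  Group.isSolvable_of_surjective (MonoidHom.subgroupMap_surjective f K)

theorem solvable_of_map (f : G →* H) (hf : Group.IsSolvable f.ker) {K : Subgroup G}
    (h : Group.IsSolvable (K.map f)) : Group.IsSolvable K := by
  haveI : Group.IsSolvable (f.ker.subgroupOf K) :=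
    Group.isSolvable_of_isSolvable_injective
      (f := (K.subtype.comp (f.ker.subgroupOf K).subtype).codRestrict f.ker fun x => x.2)
      fun a b h => Subtype.ext (Subtype.ext (congrArg (fun z : f.ker => (z : G)) h))
  refine Group.isSolvable_of_ker_le_range (f.ker.subgroupOf K).subtype (f.subgroupMap K) ?_
  intro x hx
  exact ⟨⟨x, congrArg Subtype.val hx⟩, rfl⟩

theorem Sol2.map (f : G →* H) {a b : G} (h : Sol2 a b) : Sol2 (f a) (f b) := by
  unfold Sol2
  rw [← closure_pair_map]; exact solvable_map f h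

theorem Sol2.of_map (f : G →* H) (hf : Group.IsSolvable f.ker) {a b : G} (h : Sol2 (f a) (f b)) :
    Sol2 a b :=
  solvable_of_map f hf (by rw [closure_pair_map]; exact h)

theorem Sol2.of_coe {K : Subgroup G} {a b : K} (h : Sol2 (a : G) (b : G)) : Sol2 a b :=
  Sol2.of_map K.subtype (by rw [ker_subtype]; infer_instance) h

theorem Sol2.of_mk {N : Subgroup G} [N.Normal] (hN : IsMulCommutative N) {a b : G}
    (h : Sol2 (a : G ⧸ N) (b : G ⧸ N)) : Sol2 a b :=
  Sol2.of_map (QuotientGroup.mk' N) (by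
    rw [QuotientGroup.ker_mk']; exact Group.isSolvable_of_comm hN.is_comm.comm) h

theorem Sol2.symm {a b : G} (h : Sol2 a b) : Sol2 b a := by
  unfold Sol2; rwa [Set.pair_comm]

theorem Sol2.of_mem {K : Subgroup G} (hK : Group.IsSolvable K) {a b : G} (ha : a ∈ K) (hb : b ∈ K) :
    Sol2 a b :=
  Group.isSolvable_of_isSolvable_injective (inclusion_injective
    ((closure_le K).2 (Set.insert_subset ha (Set.singleton_subset_iff.2 hb))))

theorem solvable_zpowers (a : G) : Group.IsSolvable (zpowers a) :=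
  H13.isSolvable_of_isCyclic inferInstance

/-- dihedral groups are solvable -/
theorem sol2_of_invol {a b : G} (ha : a * a = 1) (hb : b * b = 1) : Sol2 a b := by
  have hab := H8.mul_mem_closure_pair a b
  have haK : a ∈ closure ({a, b} : Set G) := subset_closure (by simp)
  refine H13.isSolvable_of_normal_mul (N := zpowers (a * b)) (H := zpowers a) (zpowers_le.2 hab)
    (zpowers_le.2 haK) ?_ ?_ (solvable_zpowers _) (solvable_zpowers _)
  · rintro k hk _ ⟨i, rfl⟩
    obtain ⟨j, rfl | rfl⟩ := H8.mem_closure_pair ha hb hk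
    · exact mul_mem (mul_mem (zpow_mem_zpowers _ _) (zpow_mem_zpowers _ _))
        (inv_mem (zpow_mem_zpowers _ _))
    · have : a * (a * b) ^ j * (a * b) ^ i * (a * (a * b) ^ j)⁻¹ = a * (a * b) ^ i * a⁻¹ := by group
      simp only
      rw [this, H8.conj_mul_zpow ha hb]
      exact zpow_mem_zpowers _ _
  · intro k hk
    obtain ⟨j, rfl | rfl⟩ := H8.mem_closure_pair ha hb hk
    · exact ⟨1, one_mem _, by simp⟩
    · exact ⟨a, mem_zpowers a, by simp⟩

theorem exists_conj_not_mem [IsSimpleGroup G] {M : Subgroup G} (hM : M ≠ ⊤) {y : G} (hy : y ≠ 1) :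
    ∃ g : G, g * y * g⁻¹ ∉ M := by
  by_contra h
  push Not at h
  rcases (normalCore_normal M).eq_bot_or_eq_top with h1 | h1
  · exact hy (mem_bot.1 (h1 ▸ (show y ∈ M.normalCore from h)))
  · exact hM (top_le_iff.1 (h1 ▸ normalCore_le M))

theorem eq_top_of_conj_mem [IsSimpleGroup G] {M : Subgroup G} {y : G} (hy : y ≠ 1)
    (h : ∀ g : G, g * y * g⁻¹ ∈ M) : M = ⊤ := by
  by_contra hM
  obtain ⟨g, hg⟩ := exists_conj_not_mem hM hy
  exact hg (h g)

variable [Finite G]

theorem minSimple_not_solvable (hG : Cfsg.IsMinimalSimple G) : ¬ Group.IsSolvable G := fun h =>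
  haveI := hG.1
  hG.2.1 ⟨⟨IsSimpleGroup.comm_iff_isSolvable.2 h⟩⟩

theorem minSimple_normalizer_ne_top (hG : Cfsg.IsMinimalSimple G) {K : Subgroup G}
    (hK : Group.IsSolvable K) (h0 : K ≠ ⊥) : normalizer (K : Set G) ≠ ⊤ := by
  haveI := hG.1
  intro h
  rcases (normalizer_eq_top_iff.1 h).eq_bot_or_eq_top with h | h
  · exact h0 h
  · subst h
    exact minSimple_not_solvable hG (Group.isSolvable_of_surjective
      (f := (⊤ : Subgroup G).subtype) fun g => ⟨⟨g, mem_top g⟩, rfl⟩)

theorem exists_involution_of_not_solvable (hG : ¬ Group.IsSolvable G) : ∃ t : G, orderOf t = 2 := by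
  haveI : Fact (Nat.Prime 2) := ⟨Nat.prime_two⟩
  refine exists_prime_orderOf_dvd_card' 2 ?_
  by_contra h
  exact hG (H54.odd_order_solvable (Nat.odd_iff.2 (by omega)))

/-- working form of `Uniq` in a minimal simple group -/
theorem Uniq.exists (h : Uniq G) (hG : Cfsg.IsMinimalSimple G) :
    ∃ (r k : ℕ) (x : G) (M : Subgroup G), r.Prime ∧ r ≠ 2 ∧ orderOf x = r ^ k ∧ x ≠ 1 ∧ M ≠ ⊤ ∧
      x ∈ M ∧ (∀ K : Subgroup G, K ≠ ⊤ → x ∈ K → K ≤ M) ∧ (∀ y, Sol2 x y → y ∈ M) ∧
      ∃ (s : ℕ) (y : G), s.Prime ∧ s ≠ r ∧ orderOf y = s ∧ y ∈ M := by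
  obtain ⟨r, k, x, hr, h2, hx, h1, hK, s, y, hs, hsr, hy, hyx⟩ := h
  refine ⟨r, k, x, normalizer (zpowers x : Set G), hr, h2, hx, h1,
    minSimple_normalizer_ne_top hG (solvable_zpowers x) (by simpa using h1), le_normalizer (mem_zpowers x),
    fun K h hxK g hg => H82.mem_normalizer_zpowers_iff.2 (hK K (hG.2.2 K h) hxK g hg),
    fun y hy => H82.mem_normalizer_zpowers_iff.2 (hK _ hy (subset_closure (by simp)) y
      (subset_closure (by simp))), s, y, hs, hsr, hy, H82.mem_normalizer_zpowers_iff.2 hyx⟩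

end Cfsg.Agent.H31
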