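import Cfsg.Agent.H3.PResidual
import Cfsg.Agent.H31.NoFour
import Cfsg.Agent.H44.FourNorm
import Cfsg.Agent.H77.Derange
import Cfsg.Agent.S3993

/-! Counting involutions modulo 4 (Alperin-Feit-Thompson, Herzog). -/

set_option autoImplicit false

namespace Cfsg.Agent.H31

open Subgroup Cfsg
open scoped commutatorElement

variable {G : Type*} [Group G] [Finite G]

theorem card_dvd_ncard_of_mul (V : Subgroup G) (Y : Set G) (h : ∀ v ∈ V, ∀ y ∈ Y, v * y ∈ Y) :
    Nat.card V ∣ Y.ncard :=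
  H77.dvd_card_of_forall_orbit (G := V) Y (fun v y hy => h v v.2 y hy) _ fun y _ =>
    (Nat.card_range_of_injective fun _ _ e => Subtype.ext (mul_right_cancel e)).symm.dvd

theorem four_dvd_ncard_of_orbits {P X : Type*} [Group P] [MulAction P X] [Finite X]
    (hP : IsPGroup 2 P) (Y : Set X) (hY : ∀ g : P, ∀ y ∈ Y, g • y ∈ Y)
    (h : ∀ y ∈ Y, 2 < Nat.card (MulAction.orbit P y)) : 4 ∣ Y.ncard :=
  H77.dvd_card_of_forall_orbit Y hY _ fun y hy => by
    obtain ⟨k, hk⟩ := hP.card_orbit y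
    have := h y hy
    rw [hk] at this ⊢
    rcases k with _ | _ | k
    · omega
    · omega
    · exact ⟨2 ^ k, by ring⟩

theorem card_sq_eq (G : Type*) [Group G] [Finite G] :
    {x : G | x ^ 2 = 1}.ncard = Nat.card {t : G // orderOf t = 2} + 1 := by
  rw [show {x : G | x ^ 2 = 1} = insert 1 {t | orderOf t = 2} by
    ext x
    simp only [Set.mem_ofPred_eq, Set.mem_insert_iff]
    refine ⟨fun h => (em _).imp_right (orderOf_eq_prime h), ?_⟩
    rintro (rfl | h)
    exacts [one_pow 2, h ▸ pow_orderOf_eq_one x], Set.ncard_insert_of_notMem (by simp)]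
  rfl

theorem card_orbit_conj (S : Subgroup G) (x : G) :
    letI := MulAction.compHom G (MulAut.conj.comp S.subtype)
    Nat.card (MulAction.orbit S x) = (centralizer ({x} : Set G)).relIndex S := by
  letI := MulAction.compHom G (MulAut.conj.comp S.subtype)
  rw [Nat.card_coe_set_eq, ← MulAction.index_stabilizer, relIndex]
  congr 1
  ext s
  rw [mem_subgroupOf, mem_centralizer_singleton_iff, ← mul_inv_eq_iff_eq_mul]
  rfl

theorem four_dvd_ncard_of_conj {S : Subgroup G} (hS : IsPGroup 2 S) (Y : Set G)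
    (hY : ∀ g ∈ S, ∀ y ∈ Y, g * y * g⁻¹ ∈ Y)
    (h : ∀ y ∈ Y, 2 < (centralizer ({y} : Set G)).relIndex S) : 4 ∣ Y.ncard := by
  letI := MulAction.compHom G (MulAut.conj.comp S.subtype)
  exact four_dvd_ncard_of_orbits hS Y (fun g y hy => hY g g.2 y hy) fun y hy =>
    (h y hy).trans_eq (card_orbit_conj S y).symm

theorem ncard_split (Y : Set G) (C : Set G) : Y.ncard = (Y ∩ C).ncard + (Y \ C).ncard :=
  (Set.ncard_inter_add_ncard_sdiff_eq_ncard Y C).symm

theorem four_dvd_of_normal_four (hG : IsPGroup 2 G) {U : Subgroup G} [hUn : U.Normal]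
    (hU : IsElementaryAbelian 2 U) (h4 : Nat.card U = 4)
    (hw : ∀ w : G, 4 < Nat.card (centralizer ({w} : Set G))) : 4 ∣ {x : G | x ^ 2 = 1}.ncard := by
  obtain ⟨z, h⟩ := H44.exists_NF_of_normal (T := ⊤) (hG.to_subgroup _) le_top hU h4
    (by rw [normalizer_eq_top])
  obtain ⟨u, hu, hu1, huz⟩ := h.exists_ne
  have hz : ∀ g, g * z = z * g := fun g => h.comm (mem_top g)
  let C := centralizer (U : Set G)
  rw [ncard_split _ C]
  refine dvd_add (h4 ▸ card_dvd_ncard_of_mul U _ fun v hv y hy => ⟨?_, C.mul_mem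
    (H44.ea_le_centralizer hU hv) hy.2⟩) ?_
  · have : Commute v y := hy.2 v hv
    rw [Set.mem_ofPred_eq, this.mul_pow, hU.2 v hv, hy.1, mul_one]
  haveI : (zpowers z).Normal := ⟨fun y hy g => by
    obtain ⟨i, rfl⟩ := mem_zpowers_iff.1 hy
    rw [← conj_zpow, hz, mul_inv_cancel_right]; exact zpow_mem (mem_zpowers z) i⟩
  have hzz : ∀ y, y ∈ zpowers z ↔ y = 1 ∨ y = z := fun y => by
    classical
    rw [mem_zpowers_iff_mem_range_orderOf, h.orderOf_eq]
    simp [Finset.range_add_one, eq_comm, or_comm]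
  let π := QuotientGroup.mk' (zpowers z)
  have hπ : ∀ y, π y = 1 ↔ y = 1 ∨ y = z := fun y => (QuotientGroup.eq_one_iff y).trans (hzz y)
  let V : Subgroup G :=
    { carrier := {v | v ∈ C ∧ π v ∈ center _ ∧ π v ^ 2 = 1}
      one_mem' := ⟨one_mem _, by simp, by simp⟩
      mul_mem' := fun {a b} ha hb => ⟨mul_mem ha.1 hb.1, map_mul π a b ▸ mul_mem ha.2.1 hb.2.1, by
        have : Commute (π a) (π b) := mem_center_iff.1 hb.2.1 _
        rw [map_mul, this.mul_pow, ha.2.2, hb.2.2, mul_one]⟩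
      inv_mem' := fun {a} ha => ⟨inv_mem ha.1, map_inv π a ▸ inv_mem ha.2.1, by
        rw [map_inv, inv_pow, ha.2.2, inv_one]⟩ }
  have hUV : U ≤ V := fun v hv => ⟨H44.ea_le_centralizer hU hv, mem_center_iff.2 fun g => by
    obtain ⟨g, rfl⟩ := QuotientGroup.mk'_surjective _ g
    rw [← mul_inv_eq_iff_eq_mul, ← map_inv, ← map_mul, ← map_mul]
    rcases h.conj g trivial v hv with e | e <;> rw [e]
    rw [map_mul, (hπ z).2 (Or.inr rfl), mul_one], by rw [← map_pow, hU.2 v hv, map_one]⟩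
  have hCn : ∀ g y, g * y * g⁻¹ ∈ C → y ∈ C := fun g y hy => by
    simpa [mul_assoc] using (inferInstance : C.Normal).conj_mem _ hy g⁻¹
  rcases hUV.eq_or_lt with e | e
  · refine four_dvd_ncard_of_conj (hG.to_subgroup ⊤) _ (fun g _ y hy => ⟨by
      rw [Set.mem_ofPred_eq, conj_pow, hy.1]; group, fun h' => hy.2 (hCn g y h')⟩) fun y hy => ?_
    rw [relIndex_top_right]
    by_contra hle
    haveI : (centralizer ({y} : Set G)).Normal := by
      have := index_ne_zero_of_finite (H := centralizer ({y} : Set G))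
      by_cases h1 : (centralizer ({y} : Set G)).index = 1
      · rw [index_eq_one.1 h1]; infer_instance
      · exact normal_of_index_eq_two (by omega)
    obtain ⟨k, hk, k1, k2, k3⟩ := H3.exists_mem_central_mod hG (zpowers z)
      (C ⊓ centralizer ({y} : Set G)) fun hle => by
        have h1 := card_le_of_le hle
        have h2 := h.card_le (A := centralizer ({y} : Set G)) le_top
        rw [Nat.card_zpowers, h.orderOf_eq] at h1
        exact absurd (h2.trans (Nat.mul_le_mul_left 2 h1)) (not_le.2 (hw y))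
    have hkU : k ∈ U := e ▸ ⟨hk.1, mem_center_iff.2 fun g => by
      obtain ⟨g, rfl⟩ := QuotientGroup.mk'_surjective _ g
      rw [eq_comm, ← commutatorElement_eq_one_iff_mul_comm, ← map_commutatorElement]
      exact (QuotientGroup.eq_one_iff _).2 (k3 g), by
      rw [← map_pow]; exact (QuotientGroup.eq_one_iff _).2 k2⟩
    rw [hzz, not_or] at k1
    exact hy.2 (h.mem_centralizer_of_comm trivial hkU k1.1 k1.2
      (mul_inv_eq_iff_eq_mul.2 (mem_centralizer_singleton_iff.1 hk.2).symm))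
  · have h8 : 8 ∣ Nat.card V := by
      obtain ⟨k, hk⟩ := (hG.to_subgroup V).exists_card_eq
      have h1 : 4 < Nat.card V := h4 ▸ Set.ncard_lt_ncard (s := (U : Set G)) (t := V) e
      rw [hk] at h1 ⊢
      exact pow_dvd_pow 2 ((Nat.pow_lt_pow_iff_right (a := 2) (n := 2) one_lt_two).1 h1)
    have h1 := h8.trans (card_dvd_ncard_of_mul V ({y | π y ^ 2 = 1} \ C) fun v hv y hy => ⟨by
      have : Commute (π y) (π v) := mem_center_iff.1 hv.2.1 _
      rw [Set.mem_ofPred_eq, map_mul, this.symm.mul_pow, hv.2.2, hy.1, mul_one],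
      fun h' => hy.2 ((C.mul_mem_cancel_left hv.1).1 h')⟩)
    have huu : u * u = 1 := sq u ▸ hU.2 u hu
    have hsq : ∀ y ∉ C, (y * u) ^ 2 = y ^ 2 * z := fun y hy => by
      have h2 := h.conj_eq_of_not_mem (mem_top y⁻¹) (fun h' => hy (C.inv_mem_iff.1 h')) hu hu1 huz
      calc (y * u) ^ 2 = y ^ 2 * (y⁻¹ * u * y⁻¹⁻¹) * u := by rw [sq, sq]; group
        _ = y ^ 2 * z := by rw [h2, hz u, mul_assoc, mul_assoc, huu, mul_one]
    have huC : u ∈ C := H44.ea_le_centralizer hU hu
    rw [show {y | π y ^ 2 = 1} \ (C : Set G) = ({y | y ^ 2 = 1} \ C) ∪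
        (· * u) '' ({y | y ^ 2 = 1} \ C) by
      ext y
      simp only [Set.mem_sdiff, Set.mem_ofPred_eq, ← map_pow, hπ, Set.mem_union, Set.mem_image]
      constructor
      · rintro ⟨h1 | h1, h2⟩
        · exact Or.inl ⟨h1, h2⟩
        · exact Or.inr ⟨y * u, ⟨by rw [hsq y h2, h1, h.mul_self],
            fun h' => h2 ((C.mul_mem_cancel_right huC).1 h')⟩, by rw [mul_assoc, huu, mul_one]⟩
      · rintro (⟨h1, h2⟩ | ⟨w, ⟨h1, h2⟩, rfl⟩)
        · exact ⟨Or.inl h1, h2⟩
        · exact ⟨Or.inr (by rw [hsq w h2, h1, one_mul]),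
            fun h' => h2 ((C.mul_mem_cancel_right huC).1 h')⟩,
      Set.ncard_union_eq (Set.disjoint_left.2 (by
        rintro _ h1 ⟨w, ⟨h2, h3⟩, rfl⟩
        have h5 : (w * u) ^ 2 = 1 := h1.1
        rw [hsq w h3, show w ^ 2 = 1 from h2, one_mul] at h5
        exact h.ne h5)), Set.ncard_image_of_injective _ (mul_left_injective u)] at h1
    omega

/-- Alperin-Feit-Thompson. -/
theorem aft (hG : IsPGroup 2 G) (h : ¬ 4 ∣ {x : G | x ^ 2 = 1}.ncard) :
    IsCyclic G ∨ ∃ w : G, Nat.card (centralizer ({w} : Set G)) ≤ 4 := by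
  by_contra! hcon
  obtain ⟨A, hA, hAc, hnc⟩ : ∃ A : Subgroup G, A.Normal ∧ IsMulCommutative A ∧ ¬ IsCyclic A := by
    by_contra! h'
    rcases cyclic_or_small_cent hG h' with h1 | ⟨w, hw⟩
    exacts [hcon.1 h1, absurd hw (not_le.2 (hcon.2 w))]
  haveI : (omegaOne 2 A).Normal := by
    rw [← normalizer_eq_top_iff, eq_top_iff]
    exact le_normalizer_of_normal.trans (H21.normalizer_le_normalizer_omegaOne 2 A)
  obtain ⟨U, hU, hle, hc⟩ := H3.exists_normal_le_card_eq hG (omegaOne 2 A) 2 (by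
    by_contra hlt
    refine hnc (H46.isCyclic_of_comm_of_unique (hG.to_subgroup A) fun x y hx hy => ?_)
    obtain ⟨k, hk⟩ := (hG.to_subgroup (omegaOne 2 A)).exists_card_eq
    have hx' : orderOf (x : G) = 2 := by rw [orderOf_coe, hx]
    have h1 : zpowers (x : G) = omegaOne 2 A := H21.eq_of_le_of_card_le
      (zpowers_le_of_mem (H21.mem_omegaOne x.2 (hx' ▸ pow_orderOf_eq_one (x : G)))) (by
        rw [hk, not_le, Nat.pow_lt_pow_iff_right one_lt_two] at hlt
        rw [Nat.card_zpowers, hx', hk]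
        exact (Nat.pow_le_pow_right two_pos (Nat.lt_succ_iff.1 hlt)).trans_eq rfl)
    obtain ⟨i, hi⟩ := mem_zpowers_iff.1 (h1 ▸ H21.mem_omegaOne y.2
      (by exact_mod_cast congrArg Subtype.val hy) : (y : G) ∈ zpowers (x : G))
    exact mem_zpowers_iff.2 ⟨i, Subtype.ext (by simpa using hi)⟩)
  exact h (four_dvd_of_normal_four hG (H21.isElementaryAbelian_of_le
    (H21.isElementaryAbelian_omegaOne 2 A) hle) hc hcon.2)

/-- Herzog: involutions outside a Sylow 2-subgroup of exponent greater than 2. -/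
theorem four_dvd_outside (S : Sylow 2 G) {a : S} (ha : a ^ 2 ≠ 1) :
    4 ∣ ({x : G | x ^ 2 = 1} \ S).ncard := by
  obtain ⟨z, hz, hzc, hz2⟩ := H3.exists_mem_center_orderOf_eq S.isPGroup' (frattini S)
    fun h => ha (mem_bot.1 (h ▸ H3.pow_mem_frattini S.isPGroup' a))
  have hc : ∀ s : S, (s : G) * z = z * s := fun s => congrArg Subtype.val (mem_center_iff.1 hzc s)
  have hzz : (z : G) ^ 2 = 1 := by exact_mod_cast congrArg Subtype.val (hz2 ▸ pow_orderOf_eq_one z)
  have hN : ∀ x : G, x ^ 2 = 1 → (∀ s ∈ (S : Subgroup G), x * s * x⁻¹ ∈ (S : Subgroup G)) →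
      x ∈ (S : Subgroup G) := fun x hx h => by
    have h1 : IsPGroup 2 (zpowers x) := H44.isPGroup_of_ea (H21.isElementaryAbelian_zpowers hx)
    have h2 : zpowers x ≤ normalizer (S : Set G) := zpowers_le.2 (mem_normalizer_fintype h)
    exact (S.is_maximal' (h1.to_sup_of_normal_right' S.isPGroup' h2) le_sup_right).le
      (mem_sup_left (mem_zpowers x))
  have hS : ∀ s ∈ (S : Subgroup G), ∀ y : G, s * y * s⁻¹ ∈ (S : Subgroup G) → y ∈ (S : Subgroup G) :=
    fun s hs y hy => by simpa [mul_assoc] using mul_mem (mul_mem (inv_mem hs) hy) hs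
  rw [ncard_split _ (centralizer ({(z : G)} : Set G))]
  refine dvd_add ?_ (four_dvd_ncard_of_conj S.isPGroup' _ (fun s hs y hy => ⟨⟨by
      rw [Set.mem_ofPred_eq, conj_pow, hy.1.1]; group, fun h => hy.1.2 (hS s hs y h)⟩,
    fun h => hy.2 ?_⟩) fun y hy => ?_)
  · have hw : ∀ (w : zpowers (z : G)) (y : G), y * z = z * y → y * w = w * y := fun w y h => by
      obtain ⟨_, i, rfl⟩ := w
      exact Commute.zpow_right h i
    letI : MulAction (S × zpowers (z : G)) G :=
      { smul := fun g y => g.1 * y * (g.1 : G)⁻¹ * g.2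
        one_smul := fun y => show ((1 : S) : G) * y * ((1 : S) : G)⁻¹ * (1 : zpowers (z : G)) = y by
          simp
        mul_smul := fun g h y => by
          change ((g.1 : G) * h.1) * y * ((g.1 : G) * h.1)⁻¹ * ((g.2 : G) * h.2) =
            g.1 * (h.1 * y * (h.1 : G)⁻¹ * h.2) * (g.1 : G)⁻¹ * g.2
          have h1 := hw h.2 _ (hc g.1⁻¹)
          have h2 := hw h.2 _ (hw g.2 _ rfl).symm
          simp only [InvMemClass.coe_inv] at h1
          rw [h2, mul_inv_rev]
          simp only [mul_assoc]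
          rw [← mul_assoc (g.1 : G)⁻¹, h1, mul_assoc] }
    have hsm : ∀ (g : S × zpowers (z : G)) (y : G), g • y = g.1 * y * (g.1 : G)⁻¹ * g.2 :=
      fun _ _ => rfl
    have hw2 := (H21.isElementaryAbelian_zpowers hzz).2
    refine four_dvd_ncard_of_orbits (P := S × zpowers (z : G)) (fun g => ?_) _ (fun g y hy => ?_)
      fun y hy => ?_
    · obtain ⟨k, hk⟩ := S.isPGroup' g.1
      refine ⟨k + 1, Prod.ext ?_ (Subtype.ext ?_)⟩
      · rw [Prod.pow_fst, pow_succ, pow_mul, hk, one_pow, Prod.fst_one]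
      · rw [Prod.pow_snd, pow_succ', SubmonoidClass.coe_pow, pow_mul, hw2 _ g.2.2, one_pow]; rfl
    · have h1 : (g.1 : G) * y * (g.1 : G)⁻¹ ∈ centralizer ({(z : G)} : Set G) :=
        mul_mem (mul_mem (mem_centralizer_singleton_iff.2 (hc _)) hy.2)
          (inv_mem (mem_centralizer_singleton_iff.2 (hc _)))
      have h2 : Commute _ (g.2 : G) := hw g.2 _ (mem_centralizer_singleton_iff.1 h1)
      refine ⟨⟨by rw [Set.mem_ofPred_eq, hsm, h2.mul_pow, hw2 _ g.2.2, conj_pow, hy.1.1]; group,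
        fun h => hy.1.2 (hS _ g.1.2 y ((mul_mem_cancel_right (zpowers_le.2 z.2 g.2.2)).1 h))⟩,
        mul_mem h1 (mem_centralizer_singleton_iff.2 (hw g.2 _ rfl).symm)⟩
    · obtain ⟨s, hs, h1⟩ : ∃ s ∈ (S : Subgroup G), y * s * y⁻¹ ∉ (S : Subgroup G) := by
        by_contra! h; exact hy.1.2 (hN y hy.1.1 h)
      have hy2 : y⁻¹ = y := mul_eq_one_iff_inv_eq.1 (sq y ▸ hy.1.1)
      rw [Nat.card_coe_set_eq, Set.two_lt_ncard_iff]
      refine ⟨y, y * z, s⁻¹ * y * s, MulAction.mem_orbit_self y, ⟨(1, ⟨z, mem_zpowers _⟩), by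
        simp [hsm]⟩, ⟨(⟨s⁻¹, inv_mem hs⟩, 1), by simp [hsm]⟩, fun e => ?_, fun e => h1 ?_,
        fun e => h1 ?_⟩
      · rw [left_eq_mul, OneMemClass.coe_eq_one] at e
        rw [e, orderOf_one] at hz2
        exact absurd hz2 (by norm_num)
      · rw [show y * s * y⁻¹ = s * (s⁻¹ * y * s) * y⁻¹ by group, ← e]
        simpa using hs
      · rw [show y * s * y⁻¹ = s * (s⁻¹ * y * s) * y⁻¹ by group, ← e,
          mem_centralizer_singleton_iff.1 hy.2]
        simpa [mul_assoc] using mul_mem hs z.2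
  · have h1 : (s⁻¹ * (s * y * s⁻¹) * s) ∈ centralizer ({(z : G)} : Set G) :=
      mul_mem (mul_mem (inv_mem (mem_centralizer_singleton_iff.2 (hc ⟨s, hs⟩))) h)
        (mem_centralizer_singleton_iff.2 (hc ⟨s, hs⟩))
    simpa [mul_assoc] using h1
  · by_contra hle
    have h0 := index_ne_zero_of_finite (H := (centralizer ({y} : Set G)).subgroupOf S)
    have h1 : z ∈ (centralizer ({y} : Set G)).subgroupOf S := by
      by_cases h2 : (centralizer ({y} : Set G)).relIndex S = 1
      · rw [index_eq_one.1 h2]; trivial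
      · exact H3.mem_frattini_iff.1 hz _ (H3.isCoatom_of_index_prime (by
          rw [show ((centralizer ({y} : Set G)).subgroupOf S).index = 2 by
            change _ ≠ 0 at h0; unfold relIndex at *; omega]
          exact Nat.prime_two))
    exact hy.2 (mem_centralizer_singleton_iff.2 (mem_centralizer_singleton_iff.1 h1).symm)

/-- Herzog's reduction. -/
theorem herzog (S : Sylow 2 G) (h : ¬ 4 ∣ {x : G | x ^ 2 = 1}.ncard) :
    IsCyclic S ∨ ¬ 4 ∣ {x : S | x ^ 2 = 1}.ncard := by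
  by_cases ha : ∃ a : S, a ^ 2 ≠ 1
  · obtain ⟨a, ha⟩ := ha
    refine Or.inr fun h4 => h ?_
    rw [ncard_split _ S]
    refine dvd_add ?_ (four_dvd_outside S ha)
    rw [← Set.ncard_image_of_injective _ Subtype.val_injective] at h4
    refine h4.trans (dvd_of_eq (congrArg _ (Eq.symm ?_)))
    ext x
    constructor
    · exact fun hx => ⟨⟨x, hx.2⟩, Subtype.ext hx.1, rfl⟩
    · rintro ⟨y, hy, rfl⟩; exact ⟨congrArg Subtype.val hy, y.2⟩
  · push Not at ha
    obtain ⟨k, hk⟩ := S.isPGroup'.exists_card_eq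
    rcases k with _ | _ | k
    · haveI := (Nat.card_eq_one_iff_unique.1 hk).1
      exact Or.inl inferInstance
    · exact Or.inl (isCyclic_of_prime_card (p := 2) hk)
    refine absurd ?_ h
    have h1 := S3993.result (G := G) 4 ((show 4 ∣ Nat.card S from hk ▸ ⟨2 ^ k, by ring⟩).trans
      (card_subgroup_dvd_card _))
    refine h1.trans (dvd_of_eq (Nat.card_congr (Equiv.subtypeEquivRight fun x => ⟨fun hx => ?_,
      fun hx => by rw [show 4 = 2 * 2 from rfl, pow_mul, show x ^ 2 = 1 from hx, one_pow]⟩)))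
    have h2 : IsPGroup 2 (zpowers x) := fun y => ⟨2, by
      obtain ⟨_, i, rfl⟩ := y
      refine Subtype.ext ?_
      change (x ^ i) ^ 4 = 1
      rw [← zpow_natCast, ← zpow_mul, mul_comm, zpow_mul, zpow_natCast, hx, one_zpow]⟩
    obtain ⟨T, hT⟩ := h2.exists_le_sylow
    obtain ⟨g, rfl⟩ := MulAction.exists_smul_eq G S T
    obtain ⟨s, hs, e⟩ := hT (mem_zpowers x)
    change x ^ 2 = 1
    rw [← e]
    change (g * s * g⁻¹) ^ 2 = 1
    rw [conj_pow, show s ^ 2 = 1 from congrArg Subtype.val (ha ⟨s, hs⟩)]; group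

end Cfsg.Agent.H31
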