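import Cfsg.Prelude.Def_OddOrderLocal
import Cfsg.Agent.H3.PGroup
import Cfsg.Agent.H3.ClassTwo
import Cfsg.Agent.H81.Meta
import Cfsg.Agent.H35.PrimeOrder

/-! A maximal subgroup of a bicyclic 2-group `⟨x⟩⟨y⟩` containing `x` is metacyclic. -/

set_option autoImplicit false

namespace Cfsg.Agent.H31

open Subgroup Cfsg
open scoped commutatorElement

universe u

variable {P : Type*} [Group P]

/-- `M = ⟨a⟩⟨b⟩` with `⟨a⟩` normal in `M` -/
def MC (M : Subgroup P) : Prop := ∃ a ∈ M, ∃ b ∈ M, (∀ g ∈ M, ∃ i j : ℤ, g = a ^ i * b ^ j) ∧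
  ∀ g ∈ M, g * a * g⁻¹ ∈ zpowers a

theorem MC.isMetacyclic {M : Subgroup P} (h : MC M) : IsMetacyclic M := by
  obtain ⟨a, ha, b, hb, h1, h2⟩ := h
  haveI : (zpowers (⟨a, ha⟩ : M)).Normal := ⟨by
    rintro _ ⟨i, rfl⟩ g
    obtain ⟨k, hk⟩ := h2 g g.2
    refine ⟨k * i, Subtype.ext ?_⟩
    simp only [SubgroupClass.coe_zpow, coe_mul, coe_inv] at hk ⊢
    rw [zpow_mul, hk, conj_zpow]⟩
  refine ⟨zpowers (⟨a, ha⟩ : M), this, inferInstance, ⟨⟨((⟨b, hb⟩ : M) : M ⧸ _), fun q => ?_⟩⟩⟩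
  obtain ⟨g, rfl⟩ := QuotientGroup.mk_surjective q
  obtain ⟨i, j, e⟩ := h1 g g.2
  refine ⟨j, ?_⟩
  rw [show g = ⟨a, ha⟩ ^ i * ⟨b, hb⟩ ^ j from Subtype.ext e, QuotientGroup.mk_mul,
    (QuotientGroup.eq_one_iff _).2 (zpow_mem_zpowers _ i), one_mul]
  rfl

theorem mem_of_odd_zpow (hP : IsPGroup 2 P) {K : Subgroup P} {g : P} {e : ℤ} (he : Odd e)
    (h : g ^ e ∈ K) : g ∈ K := by
  obtain ⟨k, hk⟩ := hP g
  obtain ⟨u, v, huv⟩ : IsCoprime e (2 ^ k) := (Int.isCoprime_two_right.2 he).pow_right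
  rw [← zpow_one g, ← huv, zpow_add, mul_comm u, mul_comm v, zpow_mul, zpow_mul,
    show g ^ (2 ^ k : ℤ) = 1 by exact_mod_cast hk, one_zpow, mul_one]
  exact zpow_mem h u

section Base

variable {x w c : P} (hc : c ∈ center P) (hc2 : c * c = 1) (hw : w * x = c * (x * w))

include hc2 in
theorem c_even {k : ℤ} (hk : Even k) : c ^ k = 1 := by
  obtain ⟨k, rfl⟩ := hk
  rw [← two_mul, zpow_mul, zpow_two, hc2, one_zpow]

include hc2 in
theorem c_odd {k : ℤ} (hk : Odd k) : c ^ k = c := by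
  obtain ⟨k, rfl⟩ := hk
  rw [zpow_add, c_even hc2 (even_two_mul k), one_mul, zpow_one]

include hc hw in
theorem swap (i j : ℤ) : w ^ j * x ^ i = c ^ (i * j) * (x ^ i * w ^ j) := by
  have h1 : ⁅w, x⁆ = c := by rw [commutatorElement_def, hw]; group
  have h2 : ∀ g, Commute g c := fun g => mem_center_iff.1 hc g
  have h3 : ⁅w, x ^ i⁆ = c ^ i := by
    rw [H3.commutator_zpow_right_of_commute (h1 ▸ h2 x), h1]
  have h4 : ⁅w ^ j, x ^ i⁆ = c ^ (i * j) := by
    rw [H3.commutator_zpow_left_of_commute (h3 ▸ (h2 w).zpow_right i), h3, zpow_mul]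
  rw [← h4, commutatorElement_def]; group

include hc hw in
theorem sq_form (i j : ℤ) :
    x ^ i * w ^ j * (x ^ i * w ^ j) = c ^ (i * j) * (x ^ (2 * i) * w ^ (2 * j)) := by
  rw [mul_assoc, ← mul_assoc (w ^ j), swap hc hw, ← mul_assoc, ← mul_assoc,
    (show Commute x c from mem_center_iff.1 hc x).zpow_zpow, two_mul, two_mul, zpow_add, zpow_add]
  simp only [mul_assoc]

include hc hc2 hw in
theorem mc_of_mem [Finite P] (hP : IsPGroup 2 P) {M : Subgroup P} (hx : x ∈ M) (hwM : w ∈ M)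
    (hM : ∀ g ∈ M, ∃ i j : ℤ, g = x ^ i * w ^ j) {i j : ℤ} (hij : Odd i ∨ Odd j)
    (h : c ∈ zpowers (x ^ i * w ^ j)) : MC M := by
  have hg : x ^ i * w ^ j ∈ M := mul_mem (zpow_mem hx i) (zpow_mem hwM j)
  have h2 : ∀ g, Commute g c := fun g => mem_center_iff.1 hc g
  have hn : ∀ g ∈ M, g * (x ^ i * w ^ j) * g⁻¹ ∈ zpowers (x ^ i * w ^ j) := fun g hg' => by
    obtain ⟨k, l, rfl⟩ := hM g hg'
    have : x ^ k * w ^ l * (x ^ i * w ^ j) = c ^ (i * l - k * j) * (x ^ i * w ^ j) *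
        (x ^ k * w ^ l) := by
      rw [mul_assoc, ← mul_assoc (w ^ l), swap hc hw, mul_assoc _ _ (x ^ k * w ^ l),
        mul_assoc (x ^ i) _ (x ^ k * w ^ l), ← mul_assoc (w ^ j), swap hc hw]
      simp only [← mul_assoc]
      rw [(h2 x).zpow_zpow k, mul_assoc _ (x ^ i) (c ^ _), (h2 x).zpow_zpow i, ← mul_assoc,
        ← zpow_add, sub_add_cancel, mul_assoc _ (x ^ k), zpow_mul_comm, mul_assoc _ (w ^ l),
        zpow_mul_comm w]
      simp only [mul_assoc]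
    rw [this, mul_inv_cancel_right]
    exact mul_mem (zpow_mem h _) (mem_zpowers _)
  have key : ∀ b ∈ M, x ∈ zpowers (x ^ i * w ^ j) ⊔ zpowers b →
      w ∈ zpowers (x ^ i * w ^ j) ⊔ zpowers b → MC M := fun b hb k1 k2 => by
    refine ⟨_, hg, b, hb, fun g hg' => ?_, hn⟩
    obtain ⟨k, l, rfl⟩ := hM g hg'
    have : x ^ k * w ^ l ∈ ((zpowers (x ^ i * w ^ j) ⊔ zpowers b : Subgroup P) : Set P) :=
      mul_mem (zpow_mem k1 k) (zpow_mem k2 l)
    rw [coe_mul_of_right_le_normalizer_left _ _ (zpowers_le.2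
      (H35.mem_normalizer_zpowers_iff.2 (hn b hb)))] at this
    obtain ⟨_, ⟨r, rfl⟩, _, ⟨s, rfl⟩, e⟩ := this
    exact ⟨r, s, e.symm⟩
  rcases hij with ho | ho
  · refine key w hwM (mem_of_odd_zpow hP ho ?_) (mem_sup_right (mem_zpowers w))
    exact (mul_mem_cancel_right (mem_sup_right (zpow_mem_zpowers w j))).1
      (mem_sup_left (mem_zpowers _))
  · refine key x hx (mem_sup_right (mem_zpowers x)) (mem_of_odd_zpow hP ho ?_)
    exact (mul_mem_cancel_left (mem_sup_right (zpow_mem_zpowers x i))).1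
      (mem_sup_left (mem_zpowers _))

end Base

theorem orderOf_sq_lt (hP : IsPGroup 2 P) {a : P} (ha : a ≠ 1) : orderOf (a * a) < orderOf a := by
  obtain ⟨k, hk⟩ := (IsPGroup.iff_orderOf.1 hP) a
  rcases k with _ | k
  · exact absurd (orderOf_eq_one_iff.1 hk) ha
  rw [← sq, orderOf_pow' a two_ne_zero, hk, pow_succ, Nat.gcd_mul_left_left]
  exact Nat.div_lt_self (by positivity) one_lt_two

theorem mc_base [Finite P] (hP : IsPGroup 2 P) {x y w c : P} (hc : c ∈ center P) (hc2 : c * c = 1)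
    (hc1 : c ≠ 1) (hyw : y * y = w) (hw : w * x = c * (x * w)) {M : Subgroup P} (hx : x ∈ M)
    (hwM : w ∈ M) (hM : ∀ g ∈ M, ∃ i j : ℤ, g = x ^ i * w ^ j) (hy : y * x * y⁻¹ ∈ M) :
    MC M := by
  by_contra hn
  have h2 : ∀ g, Commute g c := fun g => mem_center_iff.1 hc g
  have hcM : c ∈ M := by
    rw [← mul_mem_cancel_right (mul_mem hx hwM), ← hw]; exact mul_mem hwM hx
  have ev : ∀ u ∈ M, c ∈ zpowers u → ∃ r s : ℤ, u = x ^ (2 * r) * w ^ (2 * s) := fun u hu h => by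
    obtain ⟨i, j, rfl⟩ := hM u hu
    have := mt (mc_of_mem hc hc2 hw hP hx hwM hM · h) hn
    rw [not_or, Int.not_odd_iff_even, Int.not_odd_iff_even] at this
    obtain ⟨⟨r, rfl⟩, s, rfl⟩ := this
    exact ⟨r, s, by rw [two_mul, two_mul]⟩
  have key : ∀ u ∈ M, c ∈ zpowers u → u = c := by
    by_contra! h
    obtain ⟨u, ⟨hu, ⟨k, hk⟩, hne⟩, hmax⟩ := Set.exists_max_image
      {u | u ∈ M ∧ c ∈ zpowers u ∧ u ≠ c} (fun u => orderOf (u * u)) (Set.toFinite _) h
    obtain ⟨r, s, e⟩ := ev u hu ⟨k, hk⟩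
    have h3 := sq_form hc hw r s
    rw [← e] at h3
    generalize hg : x ^ r * w ^ s = g at h3
    have h4 : g * g * (g * g) = u * u := by
      rw [h3, mul_assoc, ← mul_assoc u, (h2 u).zpow_right, ← mul_assoc, ← mul_assoc, ← zpow_add,
        c_even hc2 (Even.add_self _), one_mul]
    simp only at hk
    rcases Int.even_or_odd k with ⟨k, rfl⟩ | ho
    · rw [← two_mul, zpow_mul, zpow_two] at hk
      have h5 : g * g ≠ 1 := fun e => hc1 (by rw [← hk, ← h4, e, one_mul, one_zpow])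
      have := hmax g ⟨hg ▸ mul_mem (zpow_mem hx r) (zpow_mem hwM s), hk ▸ h4 ▸ zpow_mem
        (mul_mem (mul_mem (mem_zpowers g) (mem_zpowers g))
          (mul_mem (mem_zpowers g) (mem_zpowers g))) k, fun e => h5 (e ▸ hc2)⟩
      exact this.not_gt (h4 ▸ orderOf_sq_lt hP h5)
    · obtain ⟨l, hl⟩ := mem_of_odd_zpow hP (K := zpowers c) (g := u) ho (by rw [hk]; exact mem_zpowers c)
      simp only at hl
      rcases Int.even_or_odd l with h | h
      · exact hc1 (by rw [← hk, ← hl, c_even hc2 h, one_zpow])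
      · exact hne (by rw [← hl, c_odd hc2 h])
  have ns : ∀ g ∈ M, g * g ≠ c := fun g hg e =>
    hc1 (by rw [← e, key g hg (e ▸ mul_mem (mem_zpowers g) (mem_zpowers g)), hc2])
  have od : ∀ r s : ℤ, c = x ^ (2 * r) * w ^ (2 * s) → Odd (r * s) := fun r s e =>
    Int.not_even_iff_odd.1 fun h => ns _ (mul_mem (zpow_mem hx r) (zpow_mem hwM s))
      (by rw [sq_form hc hw, c_even hc2 h, one_mul, ← e])
  have cm : ∀ i j : ℤ, Even (i * j) → Commute (w ^ j) (x ^ i) := fun i j h => by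
    rw [Commute, SemiconjBy, swap hc hw, c_even hc2 h, one_mul]
  have hyc : Commute y w := hyw ▸ (Commute.refl y).mul_right (Commute.refl y)
  obtain ⟨r, s, hrs⟩ := ev c hcM (mem_zpowers c)
  obtain ⟨i, j, e⟩ := hM _ hy
  have hi : Odd i := Int.not_even_iff_odd.1 fun h => hc1 (by
    have h3 : Commute w (y * x * y⁻¹) :=
      e ▸ (by simpa using cm i 1 (by simpa using h) : Commute w (x ^ i)).mul_right
        ((Commute.refl w).zpow_right j)
    have h4 : y * (w * x) * y⁻¹ = y * (x * w) * y⁻¹ := by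
      rw [← mul_assoc y w, hyc.eq, mul_assoc, mul_assoc, ← mul_assoc y, h3.eq, mul_assoc,
        mul_assoc, mul_assoc, hyc.inv_left.eq, mul_assoc]
    simpa [hw] using h4)
  rcases Int.even_or_odd j with ⟨j, rfl⟩ | hj
  · obtain ⟨i, rfl⟩ := hi
    rw [add_comm, zpow_add, zpow_one, mul_assoc x, ← two_mul] at e
    have k1 : Commute x (x ^ (2 * i) * w ^ (2 * j)) := ((Commute.refl x).zpow_right _).mul_right
      (by simpa using (cm 1 (2 * j) (by simp)).symm)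
    have k2 : y * (x ^ (2 * i) * w ^ (2 * j)) * y⁻¹ = (y * x * y⁻¹) ^ (2 * i) * w ^ (2 * j) := by
      rw [conj_zpow, mul_assoc, mul_assoc, mul_assoc, (hyc.inv_left.zpow_right _).eq, mul_assoc]
    have k3 : Commute (x ^ (2 * i)) (x ^ (2 * i) * w ^ (2 * j)) := k1.zpow_left _
    have k4 : x ^ (2 * i) * ((x ^ (2 * i) * w ^ (2 * j)) ^ (2 * i) * w ^ (2 * j)) =
        (x ^ (2 * i) * w ^ (2 * j)) ^ (2 * i) * (x ^ (2 * i) * w ^ (2 * j)) := by
      rw [← mul_assoc, (k3.zpow_right _).eq, mul_assoc]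
    have hd : x ^ (2 * i) * w ^ (2 * j) ∈ M := mul_mem (zpow_mem hx _) (zpow_mem hwM _)
    rw [e, k1.mul_zpow, mul_assoc (x ^ _), k4] at k2
    generalize x ^ (2 * i) * w ^ (2 * j) = d at e k2 hd
    have k5 : y * (y * x * y⁻¹) * y⁻¹ = c * x := by
      rw [show y * (y * x * y⁻¹) * y⁻¹ = y * y * x * (y * y)⁻¹ by group, hyw, hw]; group
    rw [e, show y * (x * d) * y⁻¹ = y * x * y⁻¹ * (y * d * y⁻¹) by group, e, k2, ← (h2 x).eq,
      mul_assoc, mul_right_inj] at k5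
    exact ns _ (zpow_mem hd (i + 1)) (by rw [← k5]; group)
  · have hr := (Int.odd_mul.1 (od r s hrs)).1
    have k1 : (y * x * y⁻¹) ^ (2 * r) = x ^ (2 * r) := by
      have : y * c * y⁻¹ = c := by rw [(h2 y).eq, mul_inv_cancel_right]
      rw [hrs, ← mul_assoc, mul_assoc _ _ y⁻¹, ← (hyc.inv_left.zpow_right _).eq, ← mul_assoc,
        mul_left_inj] at this
      rw [conj_zpow, this]
    rw [zpow_mul, zpow_two, e, sq_form hc hw, c_odd hc2 (hi.mul hj), (h2 _).symm.mul_zpow,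
      c_odd hc2 hr, (cm _ _ (by simp [mul_assoc])).symm.mul_zpow, ← zpow_mul, ← zpow_mul] at k1
    have := od (r * (1 - i)) (-(j * r)) (by
      rw [eq_mul_inv_of_mul_eq k1, mul_inv_rev, ← zpow_neg, ← zpow_neg, ← mul_assoc, mul_assoc,
        (cm _ _ (by simp [mul_assoc])).eq, ← mul_assoc, ← zpow_add]
      congr 2 <;> ring)
    exact (Int.not_even_iff_odd.2 (Int.odd_mul.1 (Int.odd_mul.1 this).1).2) (odd_one.sub_odd hi)

theorem mc_of_bicyclic {P : Type u} [Group P] [Finite P] (hP : IsPGroup 2 P) {x y : P}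
    (h : ∀ g, ∃ i j : ℤ, g = x ^ i * y ^ j) {M : Subgroup P} (hM : M.index = 2) (hx : x ∈ M) :
    MC M := by
  induction hn : Nat.card P using Nat.strong_induction_on generalizing P with
  | _ n ih =>
  haveI := normal_of_index_eq_two hM
  have hw : y * y ∈ M := mul_self_mem_of_index_two hM y
  have hy : y ∉ M := fun hy => by
    rw [(eq_top_iff' M).2 fun g => by
      obtain ⟨i, j, rfl⟩ := h g
      exact mul_mem (zpow_mem hx i) (zpow_mem hy j), index_top] at hM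
    omega
  have hf : ∀ g ∈ M, ∃ i j : ℤ, g = x ^ i * (y * y) ^ j := fun g hg => by
    obtain ⟨i, j, rfl⟩ := h g
    rcases Int.even_or_odd j with ⟨j, rfl⟩ | hj
    · exact ⟨i, j, by rw [← zpow_two, ← zpow_mul, two_mul]⟩
    · exact absurd (mem_of_odd_zpow hP hj ((mul_mem_cancel_left (zpow_mem hx i)).1 hg)) hy
  by_cases hc : ⁅y * y, x⁆ = 1
  · refine ⟨x, hx, _, hw, hf, fun g hg => ?_⟩
    obtain ⟨i, j, rfl⟩ := hf g hg
    rw [(((Commute.refl x).zpow_left i).mul_left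
      ((commutatorElement_eq_one_iff_commute.1 hc).zpow_left j)).eq, mul_inv_cancel_right]
    exact mem_zpowers x
  obtain ⟨z, hz, hzc, hz2⟩ := H3.exists_mem_center_orderOf_eq hP ⁅M, M⁆ fun e =>
    hc (mem_bot.1 (e ▸ commutator_mem_commutator hw hx))
  have hzM : z ∈ M := commutator_le_left M M hz
  have hzz : z * z = 1 := by rw [← sq, ← hz2, pow_orderOf_eq_one]
  have h2 : ∀ g, Commute g z := fun g => mem_center_iff.1 hzc g
  haveI : (zpowers z).Normal := ⟨by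
    rintro _ ⟨k, rfl⟩ g
    exact ⟨k, by simp only; rw [((h2 g).zpow_right k).eq, mul_inv_cancel_right]⟩⟩
  obtain ⟨_, ⟨a, ha, rfl⟩, _, ⟨b, hb, rfl⟩, k1, k2⟩ := ih _ (by
      rw [← hn, card_eq_card_quotient_mul_card_subgroup (zpowers z), Nat.card_zpowers, hz2]
      have : 0 < Nat.card (P ⧸ zpowers z) := Nat.card_pos
      omega) (hP.to_quotient (zpowers z)) (x := x) (y := y) (fun g => by
      obtain ⟨g, rfl⟩ := QuotientGroup.mk_surjective g
      obtain ⟨i, j, rfl⟩ := h g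
      exact ⟨i, j, rfl⟩) (M := M.map (QuotientGroup.mk' _)) (by
      rw [index_map, QuotientGroup.ker_mk', sup_eq_left.2 (zpowers_le.2 hzM), hM,
        QuotientGroup.range_mk', index_top]) (mem_map_of_mem _ hx) rfl
  have k3 : ∀ g ∈ M, ∃ i j k : ℤ, g = z ^ k * a ^ i * b ^ j := fun g hg => by
    obtain ⟨i, j, e⟩ := k1 _ (mem_map_of_mem _ hg)
    obtain ⟨k, hk⟩ := QuotientGroup.eq.1 (show ((a ^ i * b ^ j : P) : P ⧸ zpowers z) = g from e.symm)
    exact ⟨i, j, k, by rw [mul_assoc, ← ((h2 _).zpow_right k).eq, show z ^ k = _ from hk]; group⟩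
  have k4 : ∀ g ∈ M, ∃ i k : ℤ, g * a * g⁻¹ = a ^ i * z ^ k := fun g hg => by
    obtain ⟨i, e⟩ := k2 _ (mem_map_of_mem _ hg)
    obtain ⟨k, hk⟩ := QuotientGroup.eq.1 (show ((a ^ i : P) : P ⧸ zpowers z) = (g * a * g⁻¹ : P)
      from e)
    exact ⟨i, k, by rw [show z ^ k = _ from hk]; group⟩
  obtain ⟨m, k, e⟩ := k4 b hb
  have e1 : ⁅b, a⁆ = a ^ (m - 1) * z ^ k := by
    rw [commutatorElement_def, e, mul_assoc, ← ((h2 _).zpow_right k).eq]; group
  have e2 : Commute a ⁅b, a⁆ := e1 ▸ ((Commute.refl a).zpow_right _).mul_right ((h2 a).zpow_right k)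
  have e3 : b * ⁅b, a⁆ * b⁻¹ ∈ zpowers ⁅b, a⁆ := by
    have : b * ⁅b, a⁆ * b⁻¹ = ⁅b, a⁆ ^ (m - 1) * ⁅b, a⁆ := by
      conv_lhs => rw [e1, ← mul_assoc, mul_assoc _ _ b⁻¹, ← ((h2 _).zpow_right k).eq, ← mul_assoc,
        ← conj_zpow, show b * a * b⁻¹ = ⁅b, a⁆ * a by rw [commutatorElement_def]; group,
        e2.symm.mul_zpow, mul_assoc, ← e1]
    exact this ▸ mul_mem (zpow_mem_zpowers _ _) (mem_zpowers _)
  have hN : M ≤ normalizer (zpowers ⁅b, a⁆ : Set P) := fun g hg => by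
    obtain ⟨i, j, k, rfl⟩ := k3 g hg
    refine mul_mem (mul_mem (zpow_mem ?_ _) (zpow_mem ?_ _)) (zpow_mem ?_ _) <;>
      rw [H35.mem_normalizer_zpowers_iff]
    · rw [← (h2 _).eq, mul_inv_cancel_right]; exact mem_zpowers _
    · rw [e2.eq, mul_inv_cancel_right]; exact mem_zpowers _
    · exact e3
  have hD : ⁅M, M⁆ ≤ zpowers ⁅b, a⁆ := by
    haveI := normal_subgroupOf_of_le_normalizer hN
    let π := QuotientGroup.mk' ((zpowers ⁅b, a⁆).subgroupOf M)
    have c1 : ∀ g : M, Commute (π g) (π ⟨z, hzM⟩) := fun g =>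
      Commute.map (show g * ⟨z, hzM⟩ = ⟨z, hzM⟩ * g from Subtype.ext (h2 g).eq) π
    have c2 : Commute (π ⟨b, hb⟩) (π ⟨a, ha⟩) := by
      rw [← commutatorElement_eq_one_iff_commute, ← map_commutatorElement]
      exact (QuotientGroup.eq_one_iff _).2 (mem_zpowers ⁅b, a⁆)
    have c3 : ∀ g : M, ∃ i j k : ℤ, π g = π ⟨z, hzM⟩ ^ k * π ⟨a, ha⟩ ^ i * π ⟨b, hb⟩ ^ j := fun g => by
      obtain ⟨i, j, k, e⟩ := k3 g g.2
      exact ⟨i, j, k, by simp only [← map_zpow, ← map_mul]; exact congrArg π (Subtype.ext e)⟩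
    have c4 : ∀ g t : M, Commute (π t) (π ⟨a, ha⟩) → Commute (π t) (π ⟨b, hb⟩) →
        Commute (π t) (π g) := fun g t e1 e2 => by
      obtain ⟨i, j, k, e⟩ := c3 g
      exact e ▸ (((c1 t).zpow_right k).mul_right (e1.zpow_right i)).mul_right (e2.zpow_right j)
    refine commutator_le.2 fun g hg g' hg' => ?_
    have := c4 ⟨g', hg'⟩ ⟨g, hg⟩ (c4 _ _ (.refl _) c2.symm).symm (c4 _ _ c2 (.refl _)).symm
    rw [← commutatorElement_eq_one_iff_commute, ← map_commutatorElement] at this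
    exact (QuotientGroup.eq_one_iff (N := (zpowers ⁅b, a⁆).subgroupOf M) _).1 this
  obtain ⟨l, hl⟩ := hD hz
  simp only at hl
  rcases Int.even_or_odd l with ⟨l, rfl⟩ | ho
  · have h3 : z ∈ zpowers a := by
      rw [← hl, ← two_mul, zpow_mul, e1, ((h2 a).zpow_zpow _ _).mul_zpow, ← zpow_mul z,
        c_even hzz (by simp), mul_one]
      exact zpow_mem (zpow_mem (zpow_mem_zpowers _ _) _) _
    obtain ⟨u, rfl⟩ := h3
    refine ⟨a, ha, b, hb, fun g hg => ?_, fun g hg => ?_⟩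
    · obtain ⟨i, j, k, rfl⟩ := k3 g hg
      exact ⟨u * k + i, j, by rw [zpow_add, zpow_mul]⟩
    · obtain ⟨i, k, e⟩ := k4 g hg
      exact e ▸ mul_mem (zpow_mem_zpowers _ _) (zpow_mem (zpow_mem_zpowers _ _) _)
  · obtain ⟨u, hu⟩ := zpowers_le.2 (mem_of_odd_zpow hP (K := zpowers z) (g := ⁅b, a⁆) ho
      (by rw [hl]; exact mem_zpowers z))
      (hD (commutator_mem_commutator hw hx))
    simp only at hu
    rw [c_odd hzz (Int.not_even_iff_odd.1 fun h => hc (by rw [← hu, c_even hzz h]))] at hu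
    exact mc_base hP hzc hzz (by rintro rfl; simp at hz2) rfl
      (by rw [hu, commutatorElement_def]; group) hx hw hf (Normal.conj_mem inferInstance x hx y)

end Cfsg.Agent.H31
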