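import Cfsg.Agent.H31.MinRed

/-! Lifting subgroups modulo a normal `l`-subgroup; dihedral subgroups. -/

set_option autoImplicit false
set_option linter.style.haveILetI false

namespace Cfsg.Agent.H31

open Subgroup

variable {G : Type*} [Group G] [Finite G]

/-- a subgroup of `G ⧸ N`, `N` an `l`-group, lifts without new primes -/
theorem exists_lift_subgroup (N : Subgroup G) [N.Normal] {l : ℕ} (hl : l.Prime) (hN : IsPGroup l N)
    (Q : Subgroup (G ⧸ N)) : ∃ H : Subgroup G, H.map (QuotientGroup.mk' N) = Q ∧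
      ∀ r : ℕ, r.Prime → r ∣ Nat.card H → r ∣ Nat.card Q := by
  haveI := Fact.mk hl
  obtain ⟨K, hK⟩ : ∃ K, K = Q.comap (QuotientGroup.mk' N) := ⟨_, rfl⟩
  have hKQ : K.map (QuotientGroup.mk' N) = Q := by
    rw [hK, map_comap_eq_self_of_surjective (QuotientGroup.mk'_surjective N)]
  have hNK : N ≤ K := by rw [hK]; exact QuotientGroup.le_comap_mk' N Q
  have hi : (N.subgroupOf K).index = Nat.card Q := by
    rw [← hKQ, ← relIndex_ker, QuotientGroup.ker_mk']; rfl
  obtain ⟨n, hn⟩ := IsPGroup.iff_card.1 hN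
  have hc : Nat.card (N.subgroupOf K) = l ^ n := by rw [H2.card_subgroupOf_of_le hNK, hn]
  by_cases h : l ∣ Nat.card Q
  · refine ⟨K, hKQ, fun r hr hd => ?_⟩
    rw [← (N.subgroupOf K).card_mul_index, hi, hc, hr.dvd_mul] at hd
    refine hd.elim (fun h' => ?_) id
    rwa [(Nat.prime_dvd_prime_iff_eq hr hl).1 (hr.dvd_of_dvd_pow h')]
  · obtain ⟨H, hH⟩ := exists_right_complement'_of_coprime (N := N.subgroupOf K) (by
      rw [hi, hc]; exact ((Nat.Prime.coprime_iff_not_dvd hl).2 h).pow_left n)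
    refine ⟨H.map K.subtype, le_antisymm (hKQ ▸ map_mono (map_subtype_le H)) ?_, fun r _ hd => ?_⟩
    · rw [← hKQ]
      rintro _ ⟨k, hk, rfl⟩
      obtain ⟨a, ha, b, hb, e⟩ := H2.exists_mul_eq_of_isComplement' hH ⟨k, hk⟩
      refine ⟨b, ⟨b, hb, rfl⟩, ?_⟩
      have e' : (a : G) * b = k := congrArg Subtype.val e
      rw [← e', map_mul, show QuotientGroup.mk' N (a : G) = 1 from
        (QuotientGroup.eq_one_iff _).2 ha, one_mul]
    · rwa [card_map_of_injective K.subtype_injective, ← hH.symm.index_eq_card, hi] at hd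

theorem prime_dvd_card_dihedral {a b : G} (ha : a * a = 1) (hb : b * b = 1) {r : ℕ} (hr : r.Prime)
    (hd : r ∣ Nat.card (closure ({a, b} : Set G))) : r = 2 ∨ r ∣ orderOf (a * b) := by
  haveI := Fact.mk hr
  obtain ⟨⟨x, hx⟩, ho⟩ := exists_prime_orderOf_dvd_card' r hd
  rw [← orderOf_coe] at ho
  obtain ⟨k, rfl | rfl⟩ := H8.mem_closure_pair ha hb hx
  · exact Or.inr (ho ▸ orderOf_dvd_of_mem_zpowers (zpow_mem_zpowers _ _))
  · refine Or.inl ((Nat.prime_dvd_prime_iff_eq hr Nat.prime_two).1 (ho ▸ ?_))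
    exact orderOf_dvd_of_pow_eq_one (by rw [sq]; exact H8.refl_mul_self ha hb k)

omit [Finite G] in
theorem orderOf_mul_dvd_two {a b : G} (ha : a * a = 1) (hb : b * b = 1) (h : a * b = b * a) :
    orderOf (a * b) ∣ 2 :=
  orderOf_dvd_of_pow_eq_one (by
    rw [sq]; nth_rewrite 2 [h]; rw [mul_assoc, ← mul_assoc b, hb, one_mul, ha])

end Cfsg.Agent.H31
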