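import Cfsg.Agent.H31.SylD
import Cfsg.Agent.H31.Aft
import Cfsg.Agent.H26.HalfTrans
import Cfsg.Agent.H25.PermMod
import Cfsg.Agent.H7.AutC
import Cfsg.Agent.S0516
import Cfsg.Agent.S0280

/-! Permutation groups in which involutions fix three points; rank 3 parameters; TI Sylow groups. -/

set_option autoImplicit false

namespace Cfsg.Agent.H31

open Subgroup Cfsg MulAction

variable {G Ω : Type*} [Group G] [Finite G] [MulAction G Ω] [Fintype Ω]

theorem exists_invol_of_even {H : Subgroup G} (h : 2 ∣ Nat.card H) : ∃ u ∈ H, orderOf u = 2 := by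
  obtain ⟨u, hu⟩ := exists_prime_orderOf_dvd_card' 2 h
  exact ⟨u, u.2, by rw [orderOf_coe, hu]⟩

section Three

variable (h3 : ∀ u : G, orderOf u = 2 → (fixedBy Ω u).ncard = 3) {S : Subgroup G}
  (hS : IsPGroup 2 S) {z : G} (hz : orderOf z = 2)

include h3 hz in
omit [Fintype Ω] in
theorem card_le_fixing {α : Ω} (hα : ∀ s ∈ S, s • α = α) (hzS : z ∈ S)
    (hc : ∀ s ∈ S, s * z = z * s) :
    Nat.card S ≤ 2 * Nat.card ↥(fixingSubgroup G (fixedBy Ω z) ⊓ S) := by
  obtain ⟨γ, δ, h1, h2, h4, hF⟩ : ∃ γ δ, α ≠ γ ∧ α ≠ δ ∧ γ ≠ δ ∧ fixedBy Ω z = {α, γ, δ} := by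
    obtain ⟨a, b, c, k1, k2, k3, hF⟩ := Set.ncard_eq_three.1 (h3 z hz)
    rcases (hF ▸ hα z hzS : α ∈ ({a, b, c} : Set Ω)) with rfl | rfl | rfl
    · exact ⟨b, c, k1, k2, k3, hF⟩
    · exact ⟨a, c, k1.symm, k3, k2, by rw [hF, Set.insert_comm]⟩
    · exact ⟨a, b, k2.symm, k3.symm, k1, by rw [hF, Set.pair_comm b, Set.insert_comm]⟩
  have hm : ∀ s ∈ S, ∀ ω ∈ fixedBy Ω z, ω ≠ α → s • ω = γ ∨ s • ω = δ := fun s hs ω hω hne => by
    have : s • ω ∈ fixedBy Ω z := by
      rw [mem_fixedBy, ← mul_smul, ← hc s hs, mul_smul, hω]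
    rw [hF] at this
    exact this.resolve_left fun e => hne (MulAction.injective s (e.trans (hα s hs).symm))
  have hγ : γ ∈ fixedBy Ω z := by rw [hF]; simp
  have hδ : δ ∈ fixedBy Ω z := by rw [hF]; simp
  have hsw : ∀ s ∈ S, (s • γ = γ ∧ s • δ = δ) ∨ (s • γ = δ ∧ s • δ = γ) := fun s hs => by
    have hne : s • γ ≠ s • δ := fun e => h4 (MulAction.injective s e)
    rcases hm s hs γ hγ h1.symm with e | e <;> rcases hm s hs δ hδ h2.symm with e' | e'
    exacts [absurd (e.trans e'.symm) hne, Or.inl ⟨e, e'⟩, Or.inr ⟨e, e'⟩,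
      absurd (e.trans e'.symm) hne]
  have hT : ∀ s ∈ S, s • γ = γ ∧ s • δ = δ → s ∈ fixingSubgroup G (fixedBy Ω z) := fun s hs h => by
    rw [mem_fixingSubgroup_iff, hF]
    rintro _ (rfl | rfl | rfl)
    exacts [hα s hs, h.1, h.2]
  refine H46.card_le_two_mul fun a ha b hb k1 k2 => hT _ (mul_mem ha hb) ?_
  have e1 := (hsw a ha).resolve_left fun h => k1 (hT a ha h)
  have e2 := (hsw b hb).resolve_left fun h => k2 (hT b hb h)
  rw [mul_smul, mul_smul, e2.1, e2.2]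
  exact ⟨e1.2, e1.1⟩

include h3 hz in
theorem fixedBy_eq {u : G} (hu : orderOf u = 2) (h : u ∈ fixingSubgroup G (fixedBy Ω z)) :
    fixedBy Ω z = fixedBy Ω u :=
  Set.eq_of_subset_of_ncard_le (fun ω hω => (mem_fixingSubgroup_iff G).1 h ω hω)
    (by rw [h3 z hz, h3 u hu])

include h3 hS hz in
theorem card_fixing_dvd :
    Nat.card ↥(fixingSubgroup G (fixedBy Ω z) ⊓ S) ∣ Fintype.card Ω - 3 := by
  rw [← h3 z hz, ← Nat.card_eq_fintype_card, ← Set.ncard_compl]
  refine H77.dvd_card_of_forall_orbit (G := ↥(fixingSubgroup G (fixedBy Ω z) ⊓ S)) (fixedBy Ω z)ᶜ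
    (fun g ω hω h => hω ?_) _ fun ω hω => ?_
  · have := (mem_fixingSubgroup_iff G).1 g⁻¹.2.1 _ h
    rw [← show ω = g • ω from (inv_smul_smul g ω).symm.trans this] at h
    exact h
  · rw [← H26.card_orbit_mul_card_inf _ ω]
    obtain ⟨k, hk⟩ := (hS.to_le (inf_le_left.trans inf_le_right :
      fixingSubgroup G (fixedBy Ω z) ⊓ S ⊓ stabilizer G ω ≤ S)).exists_card_eq
    rcases k with _ | k
    · rw [hk, pow_zero, mul_one]
    obtain ⟨u, hu, hu2⟩ := exists_invol_of_even (hk ▸ dvd_pow_self 2 k.succ_ne_zero)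
    exact absurd (fixedBy_eq h3 hz hu2 hu.1.1 ▸ hu.2 : ω ∈ fixedBy Ω z) hω

include h3 hS in
theorem not_elem_eight {α : Ω} (hα : ∀ s ∈ S, s • α = α) (h8 : Nat.card S = 8)
    (hn : ¬ 8 ∣ Fintype.card Ω - 3) (hE : IsElementaryAbelian 2 S) : False := by
  obtain ⟨z, hzS, hz⟩ := exists_invol_of_even (H := S) (by rw [h8]; norm_num)
  obtain ⟨u, huS, hu⟩ : ∃ u ∈ S, u ∉ fixingSubgroup G (fixedBy Ω z) := by
    by_contra! h
    have := card_fixing_dvd h3 hS hz
    rw [inf_eq_right.2 h, h8] at this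
    exact hn this
  have hu2 : orderOf u = 2 := orderOf_eq_prime (hE.2 u huS) (by rintro rfl; exact hu (one_mem _))
  have h1 := card_le_fixing h3 hz hα hzS fun s hs => H44.ea_comm hE hs hzS
  have h4 := H46.card_le_two_mul (H := fixingSubgroup G (fixedBy Ω u))
    (A := fixingSubgroup G (fixedBy Ω z) ⊓ S) fun a ha b hb k1 k2 => by
      have h5 := card_le_fixing h3 hu2 hα huS fun s hs => H44.ea_comm hE hs huS
      have h6 : ((fixingSubgroup G (fixedBy Ω u)).subgroupOf S).index = 2 := by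
        have k3 := H21.card_inf_mul_relIndex (fixingSubgroup G (fixedBy Ω u)) S
        have k4 : (fixingSubgroup G (fixedBy Ω u)).relIndex S ≠ 1 :=
          fun e => k1 (relIndex_eq_one.1 e ha.2)
        have k5 : (fixingSubgroup G (fixedBy Ω u)).relIndex S ≠ 0 := index_ne_zero_of_finite
        change relIndex _ _ = 2
        rw [← k3, mul_comm 2] at h5
        have := Nat.le_of_mul_le_mul_left h5 Nat.card_pos
        omega
      exact (mul_mem_iff_of_index_two h6 (a := ⟨a, ha.2⟩) (b := ⟨b, hb.2⟩)).2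
        (iff_of_false k1 k2)
  obtain ⟨w, hw, hw1⟩ := (fixingSubgroup G (fixedBy Ω u) ⊓
    (fixingSubgroup G (fixedBy Ω z) ⊓ S)).bot_or_exists_ne_one.resolve_left fun e => by
      rw [e, card_bot] at h4; omega
  have hw2 : orderOf w = 2 := orderOf_eq_prime (hE.2 w hw.2.2) hw1
  refine hu ((mem_fixingSubgroup_iff G).2 fun ω hω => ?_)
  rwa [fixedBy_eq h3 hz hw2 hw.2.1, ← fixedBy_eq h3 hu2 hw2 hw.1] at hω

end Three

theorem dihedral_of_three [IsSimpleGroup G] (hG : ¬ IsMulCommutative G)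
    (h3 : ∀ u : G, orderOf u = 2 → (fixedBy Ω u).ncard = 3) (S : Sylow 2 G) {α : Ω}
    (hα : ∀ s ∈ (S : Subgroup G), s • α = α) (h8 : Nat.card (S : Subgroup G) = 8)
    (hn : ¬ 8 ∣ Fintype.card Ω - 3) : ∃ n, 2 ≤ n ∧ Nonempty (S ≃* DihedralGroup n) := by
  letI : Fintype (GaloisField 2 4) := Fintype.ofFinite _
  have hF : Fintype.card (GaloisField 2 4) = 16 := by
    rw [← Nat.card_eq_fintype_card, GaloisField.card 2 4 (by norm_num)]; norm_num
  obtain ⟨P⟩ : Nonempty (Sylow 2 (PSU 3 (GaloisField 2 4) 4)) := inferInstance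
  have hr : PRankLE 2 2 G := fun A h1 h2 => by
    by_contra hlt
    have hA : IsElementaryAbelian 2 A := ⟨h1, h2⟩
    obtain ⟨T, hT⟩ := (H44.isPGroup_of_ea hA).exists_le_sylow
    obtain ⟨g, rfl⟩ := exists_smul_eq G S T
    obtain ⟨k, hk⟩ := (H44.isPGroup_of_ea hA).exists_card_eq
    have hc : Nat.card ((g • S : Sylow 2 G) : Subgroup G) = 8 :=
      (Nat.card_congr (Sylow.equivSMul S g).toEquiv).symm.trans h8
    have h4 : 2 ^ 3 ≤ Nat.card A := by
      rw [hk, not_le, Nat.pow_lt_pow_iff_right one_lt_two] at hlt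
      exact hk ▸ Nat.pow_le_pow_right two_pos hlt
    refine not_elem_eight h3 (g • S).isPGroup' (α := g • α) ?_ hc hn
      (eq_of_le_of_card_ge hT (hc.le.trans h4) ▸ hA)
    rintro _ ⟨s, hs, rfl⟩
    change (g * s * g⁻¹) • g • α = _
    rw [mul_smul, inv_smul_smul, mul_smul, hα s hs]
  rcases S0516.result hG hr S hF P with h | ⟨n, h1, h2, -⟩ | ⟨n, h1, h2, -⟩ | ⟨⟨e⟩⟩
  · exact h
  · have := Nat.pow_le_pow_right two_pos (Nat.succ_le_succ h1)
    omega
  · have := Nat.pow_le_pow_right two_pos (show 5 ≤ 2 * n + 1 by omega)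
    omega
  · have h1 := S0280.result (q := 4) hF 3 (by norm_num)
    have h2 : Nat.card (PSU 3 (GaloisField 2 4) 4) = 2 ^ 6 * 975 := by
      simp only [Finset.prod_range_succ] at h1
      norm_num at h1
      omega
    have h4 := P.pow_dvd_card_of_pow_dvd_card (Dvd.intro _ h2.symm)
    rw [← Nat.card_congr e.toEquiv, h8] at h4
    exact absurd h4 (by norm_num)

theorem srg_arith {p k r s : ℤ} (hp : 0 < p) (hk : 0 < k) (h1 : k + r * (2 * p - 1) + s * p = 0)
    (h2 : k ^ 2 + r ^ 2 * (2 * p - 1) + s ^ 2 * p = 3 * p * k) : k = 3 * p - 1 ∨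
      ∃ ρ : ℤ, 2 * p = 6 * ρ ^ 2 + 3 * ρ + 1 ∧ (k = p + ρ ∨ k = 2 * p - 1 - ρ) := by
  obtain ⟨m, rfl⟩ : ∃ m, s = -m - 2 * r := ⟨-s - 2 * r, by ring⟩
  obtain rfl : k = r + p * m := by linear_combination h1
  have h3 : 6 * r ^ 2 + 6 * r * m + m ^ 2 - 3 * r = p * (m * (3 - m)) :=
    mul_left_cancel₀ hp.ne' (by linear_combination h2)
  have h4 : 0 ≤ m * (3 - m) := by
    by_contra! h
    nlinarith [sq_nonneg (4 * r + 2 * m - 1)]
  have h5 : 0 ≤ m ∧ m ≤ 3 := by constructor <;> nlinarith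
  obtain ⟨h5, h6⟩ := h5
  interval_cases m
  · have : r * (2 * r - 1) = 0 := by linarith
    rcases mul_eq_zero.1 this with e | e <;> omega
  · exact Or.inr ⟨r, by linarith, Or.inl (by ring)⟩
  · exact Or.inr ⟨-1 - r, by linarith, Or.inr (by ring)⟩
  · have : (r + 1) * (2 * r + 3) = 0 := by linarith
    rcases mul_eq_zero.1 this with e | e <;> omega

/-- Trace equations of an orbital graph of a multiplicity-free action of rank 3. -/
theorem srg_eqs [Fintype G] [IsPretransitive G Ω] {χ ψ : IrrCharacter G} (h1 : χ ≠ H25.trivChar G)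
    (h2 : ψ ≠ H25.trivChar G) (h3 : χ ≠ ψ)
    (hπ : (fun g : G => (Nat.card (fixedBy Ω g) : ℂ)) =
      (H25.trivChar G : G → ℂ) + (χ : G → ℂ) + (ψ : G → ℂ)) {d e : ℕ} (hd : (χ : G → ℂ) 1 = d)
    (he : (ψ : G → ℂ) 1 = e) (he0 : e ≠ 0) {x : G} (hx : (χ : G → ℂ) x = -1)
    (hx' : (ψ : G → ℂ) x = 0) {a b : Ω} (hab : b ≠ a) :
    ∃ r s : ℤ, (Nat.card (orbit (stabilizer G a) b) : ℤ) + r * d + s * e = 0 ∧
      (Nat.card (orbit (stabilizer G a) b) : ℤ) ^ 2 + r ^ 2 * d + s ^ 2 * e =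
        Fintype.card Ω * Nat.card (orbit (stabilizer G a) b) := by
  classical
  obtain ⟨μ, k1, k2, k3, k4⟩ := H25.exists_spec_matrix _ (H25.orbMat_smul (G := G) a b) a
  rw [H25.sum_orbMat] at k3
  simp only [hπ, H5.classInner_add_left, H5.classInner_irrCharacter] at k1
  obtain ⟨r, hr⟩ := Multiset.card_eq_one.1 (show (μ χ).card = 1 by
    have := k1 χ
    rw [if_neg h1.symm, if_pos rfl, if_neg h3.symm] at this
    exact_mod_cast this)
  obtain ⟨s, hs⟩ := Multiset.card_eq_one.1 (show (μ ψ).card = 1 by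
    have := k1 ψ
    rw [if_neg h2.symm, if_pos rfl, if_neg h3] at this
    exact_mod_cast this)
  set k := Nat.card (orbit (stabilizer G a) b) with hk
  have key : ∀ (j : ℕ) (g : G), ((∑ y, (H25.orbMat G a b ^ j) y (g • y) : ℤ) : ℂ) =
      k ^ j + r ^ j * (χ : G → ℂ) g + s ^ j * (ψ : G → ℂ) g := fun j g => by
    rw [k4, ← Finset.sum_subset (Finset.subset_univ {H25.trivChar G, χ, ψ}) fun η _ hη => by
      simp only [Finset.mem_insert, Finset.mem_singleton, not_or] at hη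
      have := k1 η
      rw [if_neg (Ne.symm hη.1), if_neg (Ne.symm hη.2.1), if_neg (Ne.symm hη.2.2)] at this
      rw [Multiset.card_eq_zero.1 (by exact_mod_cast this : (μ η).card = 0)]
      simp, Finset.sum_insert (by simp [h1.symm, h2.symm]), Finset.sum_pair h3, k3, hr, hs]
    simp [H25.trivChar, add_assoc]
  have e1 := key 1 1
  have e2 := key 1 x
  have e3 := key 2 1
  simp only [pow_one, one_smul, H25.orbMat_diag hab, Finset.sum_const_zero, hd, he, hx, hx'] at e1 e2 e3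
  obtain ⟨r, rfl⟩ : ∃ r' : ℤ, r = r' :=
    ⟨k - ∑ y, H25.orbMat G a b y (x • y), by push_cast at e2 ⊢; linear_combination e2⟩
  obtain ⟨s, rfl⟩ := H7.exists_int_of_isIntegral_of_rat (k2 ψ s (by simp [hs]))
    (q := -(k + r * d) / e) (by
      have : (e : ℂ) ≠ 0 := Nat.cast_ne_zero.2 he0
      push_cast at e1 ⊢
      field_simp
      linear_combination -e1)
  have e4 : ∑ y, (H25.orbMat G a b ^ 2) y y = k ^ 2 + r ^ 2 * d + s ^ 2 * e := by exact_mod_cast e3
  refine ⟨r, s, by exact_mod_cast e1.symm, ?_⟩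
  rw [← e4]
  simp only [sq, Matrix.mul_apply] at e4 ⊢
  by_cases hsym : ∃ g : G, g • a = b ∧ g • b = a
  · obtain ⟨g, g1, g2⟩ := hsym
    rw [Finset.sum_congr rfl (g := fun _ => (k : ℤ)) fun y _ => ?_]
    · simp
    rw [hk, ← H25.sum_orbMat, ← H25.rowSum_eq _ (H25.orbMat_smul (G := G) a b) a y]
    refine Finset.sum_congr rfl fun w _ => ?_
    by_cases h : ∃ u : G, u • a = y ∧ u • b = w
    · obtain ⟨u, rfl, rfl⟩ := h
      rw [H25.orbMat_eq_one (x := u • b) ⟨u * g, by rw [mul_smul, g1], by rw [mul_smul, g2]⟩,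
        mul_one]
    · rw [H25.orbMat_eq_zero h, zero_mul]
  · exfalso
    rw [Finset.sum_eq_zero fun y _ => Finset.sum_eq_zero fun w _ => ?_] at e4
    · have : 0 < k := by
        haveI : Nonempty (orbit (stabilizer G a) b) := ⟨⟨b, mem_orbit_self b⟩⟩
        exact Nat.card_pos
      have : (0 : ℤ) < k * k := by positivity
      nlinarith [mul_nonneg (mul_self_nonneg r) (Int.natCast_nonneg d),
        mul_nonneg (mul_self_nonneg s) (Int.natCast_nonneg e)]
    by_cases h : ∃ u : G, u • a = y ∧ u • b = w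
    · obtain ⟨u, rfl, rfl⟩ := h
      rw [H25.orbMat_eq_zero (x := u • b), mul_zero]
      rintro ⟨v, v1, v2⟩
      exact hsym ⟨u⁻¹ * v, by rw [mul_smul, v1, inv_smul_smul], by rw [mul_smul, v2, inv_smul_smul]⟩
    · rw [H25.orbMat_eq_zero h, zero_mul]

/-- Orbits of overgroups of a TI Sylow subgroup on the Sylow subgroups. -/
theorem card_dvd_of_ti (h : ∀ w c : G, orderOf w = 2 → c * w = w * c → c ^ 2 = 1) (S : Sylow 2 G)
    {H : Subgroup G} (hH : (S : Subgroup G) ≤ H) :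
    Nat.card (S : Subgroup G) ∣ (normalizer (S : Set G)).relIndex H - 1 := by
  have hab : ∀ (T : Sylow 2 G) w, w ∈ (T : Subgroup G) → orderOf w = 2 →
      (T : Subgroup G) = centralizer {w} := fun T w hw hw2 => by
    haveI : Nontrivial T := ⟨⟨⟨w, hw⟩, 1, fun e => by
      rw [show w = 1 from congrArg Subtype.val e, orderOf_one] at hw2; omega⟩⟩
    obtain ⟨z, hz, hz1, hz2⟩ := H42.exists_central_involution T.isPGroup'
    have h1 : ∀ c ∈ (T : Subgroup G), c * c = 1 := fun c hc => sq c ▸ h z c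
      (by rw [orderOf_coe]; exact orderOf_eq_prime (sq z ▸ hz2) hz1)
      (congrArg Subtype.val (mem_center_iff.1 hz ⟨c, hc⟩))
    exact (T.is_maximal' (fun c => ⟨1, Subtype.ext (h w c hw2 (mem_centralizer_singleton_iff.1 c.2))⟩)
      fun c hc => mem_centralizer_singleton_iff.2
        (H42.comm_of_mul_self (h1 c hc) (h1 w hw) (h1 _ (mul_mem hc hw)))).symm
  rw [← Sylow.stabilizer_eq_normalizer, ← H26.card_orbit_eq_relIndex, Nat.card_coe_set_eq,
    ← Set.ncard_sdiff_singleton_of_mem (mem_orbit_self S)]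
  have hs : ∀ g : (S : Subgroup G), g • S = S := fun g =>
    Sylow.smul_eq_iff_mem_normalizer.2 (le_normalizer g.2)
  refine H77.dvd_card_of_forall_orbit (G := (S : Subgroup G)) (orbit H S \ {S}) (fun g T hT => ⟨?_, fun e => hT.2
    (MulAction.injective g (e.trans (hs g).symm))⟩) _ fun T hT => ?_
  · obtain ⟨u, rfl⟩ := hT.1
    exact ⟨⟨g, hH g.2⟩ * u, mul_smul (g : G) (u : G) S⟩
  · rw [← H26.card_orbit_mul_card_inf _ T]
    obtain ⟨k, hk⟩ := (S.isPGroup'.to_le (inf_le_left :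
      (S : Subgroup G) ⊓ stabilizer G T ≤ S)).exists_card_eq
    rcases k with _ | k
    · rw [hk, pow_zero, mul_one]
    obtain ⟨u, hu, hu2⟩ := exists_invol_of_even (hk ▸ dvd_pow_self 2 k.succ_ne_zero)
    have h1 : IsPGroup 2 (zpowers u) := H20.isPGroup_zpowers hu2
    have h2 : u ∈ (T : Subgroup G) := (T.is_maximal' (h1.to_sup_of_normal_right' T.isPGroup'
      (zpowers_le.2 (Sylow.stabilizer_eq_normalizer T ▸ hu.2))) le_sup_right).le
      (mem_sup_left (mem_zpowers u))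
    exact absurd (Sylow.ext ((hab T u h2 hu2).trans (hab S u hu.1 hu2).symm)) hT.2

end Cfsg.Agent.H31
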