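import Cfsg.Agent.H31.Nag2
import Cfsg.Agent.H22.GWSimple
import Cfsg.Agent.H9.SLBasic
import Cfsg.Agent.S0222

/-! Order arithmetic against the theorems of Bender and Gorenstein-Walter. -/

set_option autoImplicit false

namespace Cfsg.Agent.H31

open Subgroup Cfsg

variable {G : Type*} [Group G] [Finite G]

theorem two_val (S : Sylow 2 G) {t : G} (ht : orderOf t = 2)
    (h : ∀ s, orderOf s = 2 → IsConj t s) {p e n : ℕ} (hp : Odd p) (he : e ≠ 0)
    (hf : Nat.card G * e ^ 2 = p * Nat.card (centralizer ({t} : Set G)) ^ 2 * n) :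
    Nat.card (S : Subgroup G) = 2 ^ padicValNat 2 (Nat.card G) ∧
      padicValNat 2 (Nat.card G) + padicValNat 2 n = 2 * padicValNat 2 e := by
  have h1 : Nat.card (S : Subgroup G) = 2 ^ padicValNat 2 (Nat.card G) := by
    rw [S.card_eq_multiplicity, Nat.factorization_def _ Nat.prime_two]
  have h0 : Nat.card G ≠ 0 := Nat.card_pos.ne'
  have hc : Nat.card (centralizer ({t} : Set G)) ≠ 0 := Nat.card_pos.ne'
  haveI : Nontrivial S := Finite.one_lt_card_iff_nontrivial.1 (Nat.le_of_dvd Nat.card_pos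
    (S.dvd_card_of_dvd_card (ht ▸ orderOf_dvd_natCard t)))
  obtain ⟨z, hz, hz1, hz2⟩ := H42.exists_central_involution S.isPGroup'
  obtain ⟨g, hg⟩ := isConj_iff.1 (h z (by rw [orderOf_coe]; exact orderOf_eq_prime (sq z ▸ hz2) hz1))
  have h2 : padicValNat 2 (Nat.card (centralizer ({t} : Set G))) = padicValNat 2 (Nat.card G) := by
    refine le_antisymm ((padicValNat_dvd_iff_le h0).1 (pow_padicValNat_dvd.trans
      (card_subgroup_dvd_card _))) ((padicValNat_dvd_iff_le hc).1 ?_)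
    rw [← h1, ← H18.card_cent_conj g t, hg]
    exact card_dvd_of_le fun s hs => mem_centralizer_singleton_iff.2
      (congrArg Subtype.val (mem_center_iff.1 hz ⟨s, hs⟩))
  have hn : n ≠ 0 := by rintro rfl; exact mul_ne_zero h0 (pow_ne_zero 2 he) hf
  have h3 := congrArg (padicValNat 2) hf
  rw [padicValNat.mul h0 (pow_ne_zero 2 he), padicValNat.mul (mul_ne_zero hp.pos.ne'
    (pow_ne_zero 2 hc)) hn, padicValNat.mul hp.pos.ne' (pow_ne_zero 2 hc), padicValNat.pow e,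
    padicValNat.pow, h2, padicValNat.eq_zero_of_not_dvd hp.not_two_dvd_nat] at h3
  exact ⟨h1, by omega⟩

theorem val_mul_odd {a b : ℕ} (ha : a ≠ 0) (hb : Odd b) :
    padicValNat 2 (a * b) = padicValNat 2 a := by
  rw [padicValNat.mul ha hb.pos.ne', padicValNat.eq_zero_of_not_dvd hb.not_two_dvd_nat, add_zero]

theorem bender_num [IsSimpleGroup G] (hG : ¬ IsMulCommutative G) {H : Subgroup G}
    (hH : IsStronglyEmbedded H) {p a c : ℕ} (ha : a + 2 = 3 * p) (ha0 : a ≠ 0)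
    (h2 : ∀ j, 2 ^ j ∣ Nat.card G → 2 ^ j ∣ a + 1) (hN : p * ((a + 1) * a) ∣ Nat.card G)
    (hf : Nat.card G * (a + 1) ^ 2 = p * c ^ 2 * ((a + 1) * a)) : False := by
  obtain ⟨D, hD⟩ := hN
  have hD0 : 0 < D := Nat.pos_of_mul_pos_left (hD ▸ Nat.card_pos)
  have key : ∀ j u, 2 ^ j = u + 1 → 2 ^ j ∣ Nat.card G →
      (u + 2) * ((u + 1) * u) ≤ 3 * Nat.card G := fun j u hu h => by
    have := Nat.le_of_dvd a.succ_pos (hu ▸ h2 j h)
    calc (u + 2) * ((u + 1) * u) ≤ (a + 2) * ((a + 1) * a) * D := by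
          refine le_trans ?_ (Nat.le_mul_of_pos_right _ hD0)
          gcongr <;> omega
      _ = _ := by rw [ha, hD]; ring
  rcases S0222.result (by
    by_contra! h; exact hG ⟨⟨h⟩⟩) H hH with ⟨F, _, _, _, h4, ⟨e⟩⟩ | ⟨-, m, hm, h⟩ |
    ⟨F, _, _, q, hF, h3, h4, ⟨e⟩⟩
  · obtain ⟨j, -, hj⟩ := FiniteField.card F 2
    have h1 := H9.gcd_mul_card_psl_two (F := F)
    rw [H66.gcd_two_of_two_eq_zero (CharTwo.two_eq_zero), one_mul, ← Nat.card_congr e.toEquiv,
      hj] at h1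
    rw [hj] at h4
    obtain ⟨v, hv⟩ := h2 j (Dvd.intro _ h1.symm)
    obtain ⟨u, hu⟩ : ∃ u, 2 ^ (j : ℕ) = u + 1 := ⟨2 ^ (j : ℕ) - 1, by omega⟩
    rw [hu, show (u + 1) ^ 2 - 1 = (u + 2) * u from Nat.sub_eq_of_eq_add (by ring)] at h1
    have h5 : (a + 2) * ((a + 1) * a) * D = 3 * ((u + 1) * ((u + 2) * u)) := by
      rw [← h1, ha, hD]; ring
    rcases v with _ | _ | v
    · omega
    · obtain rfl : a = u := by omega
      obtain rfl : D = 3 := Nat.eq_of_mul_eq_mul_left (show 0 < (a + 2) * ((a + 1) * a) by positivity)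
        (by rw [h5]; ring)
      have h6 : c ^ 2 = 3 * (a + 1) ^ 2 := Nat.eq_of_mul_eq_mul_left
        (show 0 < p * ((a + 1) * a) by have : 0 < p := by omega
                                       positivity) (by rw [hD] at hf; linarith)
      obtain ⟨c, rfl⟩ := Nat.prime_three.dvd_of_dvd_pow (Dvd.intro _ h6.symm)
      have h7 : 3 ∣ a + 1 := Nat.prime_three.dvd_of_dvd_pow (n := 2) ⟨c ^ 2, by nlinarith⟩
      omega
    · have h6 : 2 * u + 1 ≤ a := by rw [hu] at hv; nlinarith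
      have h7 : (2 * u + 3) * ((2 * u + 2) * (2 * u + 1)) * 1 ≤ (a + 2) * ((a + 1) * a) * D :=
        Nat.mul_le_mul (Nat.mul_le_mul (by omega) (Nat.mul_le_mul (by omega) h6)) hD0
      nlinarith [Nat.zero_le (u ^ 3), Nat.zero_le (u ^ 2)]
  · have h1 : 2 ^ 3 ≤ 2 ^ (2 * m + 1) := Nat.pow_le_pow_right two_pos (by omega)
    obtain ⟨q, hq⟩ : ∃ q, 2 ^ (2 * m + 1) = q + 1 := ⟨2 ^ (2 * m + 1) - 1, by omega⟩
    have := key ((2 * m + 1) * 2) ((q + 2) * q) (by rw [pow_mul, hq]; ring) (by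
      rw [h, pow_mul, mul_assoc]; exact dvd_mul_right _ _)
    rw [h, hq, Nat.add_sub_cancel, show ((q + 2) * q + 2) * (((q + 2) * q + 1) * ((q + 2) * q)) =
      (q + 1) ^ 2 * ((q + 1) ^ 2 + 1) * q * (q + 2) by ring, mul_comm 3] at this
    have := Nat.le_of_mul_le_mul_left this (by have : 0 < q := by omega
                                               positivity)
    omega
  · obtain ⟨n, -, hn⟩ := H20.exists_pow_of_even_sq h3 h4 hF
    have h1 := S0280.result hF 3 (by norm_num)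
    rw [← Nat.card_congr e.toEquiv] at h1
    simp only [Finset.prod_range_succ, Finset.prod_range_zero] at h1
    norm_num at h1
    have h5 : Nat.gcd 3 (q + 1) * Nat.card G = q ^ 3 * ((q ^ 2 - 1) * (q ^ 3 + 1)) :=
      Nat.eq_of_mul_eq_mul_left q.succ_pos (by linarith)
    have h6 : 2 ^ (n * 3) ∣ Nat.card G := (Nat.Coprime.pow_left _ (Nat.coprime_two_left.2
      ((by norm_num : Odd 3).of_dvd_nat (Nat.gcd_dvd_left _ _)))).dvd_of_dvd_mul_left
      (by rw [h5, pow_mul, ← hn]; exact dvd_mul_right _ _)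
    obtain ⟨u, hu⟩ : ∃ u, q ^ 3 = u + 1 := ⟨q ^ 3 - 1, by
      have := Nat.one_le_pow 3 q (by omega); omega⟩
    have h7 := (key _ u (by rw [pow_mul, ← hn, hu]) h6).trans (Nat.mul_le_mul_left 3
      (Nat.le_mul_of_pos_left _ (Nat.gcd_pos_of_pos_left (q + 1) three_pos)))
    rw [h5, hu, show (u + 2) * ((u + 1) * u) = (u + 1) * (u + 1 + 1) * u by ring,
      show 3 * ((u + 1) * ((q ^ 2 - 1) * (u + 1 + 1))) =
        (u + 1) * (u + 1 + 1) * (3 * (q ^ 2 - 1)) by ring] at h7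
    have h8 := Nat.le_of_mul_le_mul_left h7 (by positivity)
    have h9 : 4 * q ^ 2 ≤ u + 1 := by rw [← hu, pow_succ' q 2]; exact Nat.mul_le_mul_right _ h4
    have h10 : 4 ^ 2 ≤ q ^ 2 := Nat.pow_le_pow_left h4 2
    generalize q ^ 2 = w at h8 h9 h10
    omega

theorem gw_num [IsSimpleGroup G] (hG : ¬ IsMulCommutative G) (S : Sylow 2 G) {n : ℕ} (hn : 2 ≤ n)
    (hS : Nonempty (S ≃* DihedralGroup n)) {t : G} (ht : orderOf t = 2) :
    Nat.card G = 2520 ∨ ∃ τ m, τ ≤ m + 1 ∧ τ.Coprime (m * (τ + m)) ∧ 0 < τ ∧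
      Nat.card G = 2 * τ * m * (τ + m) ∧ Nat.card (centralizer ({t} : Set G)) = 2 * τ := by
  rcases gw_simple hG S hn hS with ⟨F, _, _, h1, h2, ⟨e⟩⟩ | ⟨⟨e⟩⟩
  · obtain ⟨Γ, _, _, L, P, tor, τ, m, p, ψ, h, -, -, -, -, h3, h4, -⟩ := H22.exists_pg_hom h1 h2 e
    have h5 : τ.Coprime m := by rcases h.near with e | e <;> simp [e]
    have := h.three_le
    have := h.near
    exact Or.inr ⟨τ, m, by omega, h5.mul_right (by simpa using h5), by omega, h3, h4 t ht⟩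
  · left
    rw [Nat.card_congr e.toEquiv, nat_card_alternatingGroup, Nat.card_eq_fintype_card,
      Fintype.card_fin]
    rfl

theorem prime_cases {p : ℕ} (hp : p.Prime) (h3 : 3 < p) (h : p ∣ 2520) : p = 5 ∨ p = 7 := by
  have h1 : p ∣ 2 ^ 3 * 3 ^ 2 * 5 * 7 := h
  simp only [hp.dvd_mul, hp.prime.dvd_pow_iff_dvd (by norm_num : 3 ≠ 0),
    hp.prime.dvd_pow_iff_dvd (by norm_num : 2 ≠ 0), Nat.prime_dvd_prime_iff_eq hp Nat.prime_two,
    Nat.prime_dvd_prime_iff_eq hp Nat.prime_three, Nat.prime_dvd_prime_iff_eq hp Nat.prime_five,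
    Nat.prime_dvd_prime_iff_eq hp (by norm_num : Nat.Prime 7)] at h1
  omega

theorem gw_two {g c a τ m : ℕ} (ha : a ≠ 0) (h1 : τ.Coprime (m * (τ + m))) (h0 : 0 < τ)
    (h2 : g = 2 * τ * m * (τ + m)) (h3 : c = 2 * τ)
    (hf : g * (2 * a) ^ 2 = (a + 1) * c ^ 2 * ((2 * a + 1) * (2 * a))) :
    g = (a + 1) * ((2 * a + 1) * (2 * a)) := by
  subst h2 h3
  have h4 : m * (τ + m) * a = (a + 1) * (2 * a + 1) * τ :=
    Nat.eq_of_mul_eq_mul_left (show 0 < 8 * τ * a by positivity) (by linarith)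
  obtain rfl : τ = a := Nat.dvd_antisymm (h1.dvd_of_dvd_mul_left (Dvd.intro_left _ h4.symm))
    ((Nat.Coprime.mul_right (by simp) (by simp)).dvd_of_dvd_mul_left (Dvd.intro_left _ h4))
  have h5 := Nat.eq_of_mul_eq_mul_right h0 h4
  rw [mul_assoc, h5]; ring

theorem gw_three {g c σ τ m : ℕ} (hσ : σ ≠ 0) (hp : (4 * σ + 1).Coprime 3) (h : τ ≤ m + 1)
    (h0 : 0 < τ) (h2 : g = 2 * τ * m * (τ + m)) (h3 : c = 2 * τ)
    (hf : g * (12 * σ) ^ 2 = (4 * σ + 1) * c ^ 2 * ((12 * σ + 1 + 1) * (12 * σ + 1))) : False := by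
  subst h2 h3
  have h4 : m * (τ + m) * (6 * σ) ^ 2 = (4 * σ + 1) * (6 * σ + 1) * (2 * (6 * σ) + 1) * τ :=
    Nat.eq_of_mul_eq_mul_left (show 0 < 8 * τ by positivity) (by linarith)
  have h5 : (6 * σ).Coprime (4 * σ + 1) := by
    rw [show 6 * σ = 3 * (2 * σ) by ring, show 4 * σ = 2 * (2 * σ) by ring] at *
    exact Nat.Coprime.mul_left hp.symm (by simp)
  have h6 := Nat.le_of_dvd h0 (((h5.mul_right (by simp)).mul_right (by simp)).pow_left 2
    |>.dvd_of_dvd_mul_left (Dvd.intro_left _ h4))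
  obtain ⟨σ, rfl⟩ : ∃ s, σ = s + 1 := ⟨σ - 1, by omega⟩
  have h7 : (4 * (σ + 1) + 1) * (6 * (σ + 1) + 1) * (2 * (6 * (σ + 1)) + 1) ≤
      13 * (σ + 1) * (6 * (σ + 1)) ^ 2 := by nlinarith [Nat.zero_le (σ ^ 3), Nat.zero_le (σ ^ 2)]
  have h8 : m * (τ + m) ≤ 13 * (σ + 1) * τ := Nat.le_of_mul_le_mul_right
    (h4.le.trans ((Nat.mul_le_mul_right τ h7).trans_eq (by ring))) (by positivity)
  have h9 : 14 * (σ + 1) ≤ m := by nlinarith
  nlinarith

end Cfsg.Agent.H31
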