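import Cfsg.Agent.H31.Nag1
import Cfsg.Agent.H31.Nag3

/-! `|N(P)| = 2p`: permutation characters of degree at most `3p`. -/

set_option autoImplicit false
set_option linter.unusedSectionVars false

namespace Cfsg.Agent.H31

open Subgroup Cfsg Cfsg.Agent.H35 MulAction

variable {G : Type*} [Group G] [Finite G] {p : ℕ} [hp : Fact p.Prime]
  {Ω : Type*} [Fintype Ω] [MulAction G Ω]

theorem ncard_fixedBy_conj {t s : G} (h : IsConj t s) :
    (fixedBy Ω s).ncard = (fixedBy Ω t).ncard := by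
  obtain ⟨g, rfl⟩ := isConj_iff.1 h
  have := H5.isClassFunction_of_isCharacter (H5.isCharacter_perm (G := G) Ω) t g
  simp only [Nat.card_coe_set_eq] at this
  exact_mod_cast this

theorem exists_fixed (S : Sylow 2 G) (h : Odd (Fintype.card Ω)) :
    ∃ α : Ω, ∀ s ∈ (S : Subgroup G), s • α = α := by
  obtain ⟨α, hα⟩ := S.isPGroup'.nonempty_fixed_point_of_prime_not_dvd_card Ω
    (by rw [Nat.card_eq_fintype_card]; exact h.not_two_dvd_nat)
  exact ⟨α, fun s hs => hα ⟨s, hs⟩⟩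

theorem exists_T (h3 : ∀ u : G, orderOf u = 2 → (fixedBy Ω u).ncard = 3) (S : Sylow 2 G) {α : Ω}
    (hα : ∀ s ∈ (S : Subgroup G), s • α = α) (h2 : 2 ∣ Nat.card G) : ∃ (z : G) (j : ℕ),
      orderOf z = 2 ∧ Nat.card ↥(fixingSubgroup G (fixedBy Ω z) ⊓ S) = 2 ^ j ∧
      padicValNat 2 (Nat.card G) ≤ j + 1 := by
  haveI : Nontrivial S := Finite.one_lt_card_iff_nontrivial.1 (Nat.le_of_dvd Nat.card_pos
    (S.dvd_card_of_dvd_card h2))
  obtain ⟨z, hz, hz1, hz2⟩ := H42.exists_central_involution S.isPGroup'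
  have ho : orderOf (z : G) = 2 := by rw [orderOf_coe]; exact orderOf_eq_prime (sq z ▸ hz2) hz1
  obtain ⟨j, hj⟩ := (S.isPGroup'.to_le (inf_le_right :
    fixingSubgroup G (fixedBy Ω (z : G)) ⊓ S ≤ S)).exists_card_eq
  have := card_le_fixing h3 ho hα z.2 fun s hs => congrArg Subtype.val (mem_center_iff.1 hz ⟨s, hs⟩)
  rw [hj, S.card_eq_multiplicity, Nat.factorization_def _ Nat.prime_two, ← pow_succ'] at this
  exact ⟨z, j, ho, hj, (Nat.pow_le_pow_iff_right one_lt_two).1 this⟩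

namespace I2

variable {S : Setup G p} (I : I2 S) {t : S.K} (ht : orderOf (t : G) = 2) (hG : commutator G = ⊤)
  [Fintype G] [IsPretransitive G Ω] [Nonempty Ω]

include ht hG in
theorem perm_shape (h3 : 3 < p) {n : ℕ} (hΩ : Fintype.card Ω = n * p) (hn : n ≤ 3) :
    I.B.δ I.χ = -1 ∧ I.B.ε = -1 ∧ ∃ d k, charDegree (I.χ : G → ℂ) = d + 1 ∧ d ∣ Nat.card G ∧
      d + 2 = (k + 1) * p ∧ k + 1 ≤ n ∧
      classInner (fun g : G => (Nat.card (fixedBy Ω g) : ℂ)) I.χ ≠ 0 ∧ (k ≠ 0 → ∀ φ ∈ I.B.Y,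
        classInner (fun g : G => (Nat.card (fixedBy Ω g) : ℂ)) φ = 0) := by
  classical
  obtain ⟨φ, hφ⟩ := I.B.nonempty_Y
  have hπ := H5.isCharacter_perm (G := G) Ω
  have h1 : classInner (fun g : G => (Nat.card (fixedBy Ω g) : ℂ)) (triv G) = 1 :=
    H25.classInner_perm_triv
  obtain ⟨a, b, ha, hb, hr, hle⟩ := I.decomp hπ
    (fun i hi => perm_vanish S (hΩ ▸ dvd_mul_left p n) hi) h1 hφ
  rw [perm_degree, hΩ] at hle
  have hc := I.cardY
  have hnp := Nat.mul_le_mul_right p hn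
  rcases I.shape hG hφ with ⟨hδ, hε, h2, k, hk⟩ | ⟨hδ, hε, h2, k, hk⟩ <;> rw [hδ, hε] at hr
  · obtain rfl : a = b + 1 := by omega
    rw [← h2] at hk hle
    replace hle := (Nat.le_add_right _ _).trans hle
    refine ⟨hδ, hε, _, k, h2.symm, H16.dg_dvd φ, hk, Nat.le_of_mul_le_mul_right
      (by rw [add_mul b, one_mul] at hle; omega) hp.out.pos, by rw [ha]; exact Nat.cast_ne_zero.2 b.succ_ne_zero, fun hk0 ψ hψ => ?_⟩
    rcases b with _ | b
    · simpa using hb ψ hψ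
    · have := Nat.mul_le_mul_right p (show 2 ≤ k + 1 by omega)
      rw [add_assoc b, add_mul b] at hle
      omega
  · exfalso
    obtain rfl : b = a + 1 := by omega
    have h4 : p + 2 ≤ charDegree (φ : G → ℂ) := by nlinarith
    have h5 : I.B.Y.card * charDegree (φ : G → ℂ) < n * p := by nlinarith
    have h6 : I.B.Y.card = 2 := by
      by_contra h
      have := Nat.mul_le_mul (show 3 ≤ I.B.Y.card by omega) h4
      omega
    obtain rfl : p = 5 := by omega
    have h7 : charDegree (φ : G → ℂ) = 7 := by rw [h6] at h5; omega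
    have hY : triv G ∉ I.B.Y := Finset.disjoint_left.1 I.B.disj I.tr
    have h8 := eq_sum_of_degree_le hπ (insert (triv G) I.B.Y) (fun ψ hψ => by
      rcases Finset.mem_insert.1 hψ with rfl | hψ
      · rw [h1]; exact one_ne_zero
      · rw [hb ψ hψ]; exact Nat.cast_ne_zero.2 a.succ_ne_zero) (by
      rw [Finset.sum_insert hY, degree_triv, Finset.sum_congr rfl fun ψ hψ => I.B.degree_Y hψ hφ,
        Finset.sum_const, h6, h7, perm_degree]
      simp only [smul_eq_mul]; omega) t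
    obtain ⟨y, hy, k1, k2⟩ := I.val_t ht hG (H5.isCharacter_of_isIrr φ.2) (n := 7) (m := 1)
      (by rw [cast_degree_irr, h7]) (by rw [I.B.sum_Y hφ, cast_degree_irr, h7, hε, I.he]; norm_num)
    rw [Finset.sum_insert hY, Finset.sum_congr rfl fun ψ hψ =>
      I.B.eq_on_regular hψ hφ (S.not_dvd_orderOf t), Finset.sum_const, h6, hy, triv_apply] at h8
    have h9 : (Nat.card (fixedBy Ω (t : G)) : ℤ) = 1 + 2 * y := by
      rw [nsmul_eq_mul] at h8; exact_mod_cast h8
    rw [abs_le] at k1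
    omega

/-- degree `2p - 1`: the third constituent -/
theorem third (hΩ : Fintype.card Ω = 3 * p) (hd : charDegree (I.χ : G → ℂ) + 1 = 2 * p)
    (h1 : classInner (fun g : G => (Nat.card (fixedBy Ω g) : ℂ)) I.χ ≠ 0)
    (h2 : ∀ φ ∈ I.B.Y, classInner (fun g : G => (Nat.card (fixedBy Ω g) : ℂ)) φ = 0) :
    ∃ ψ : IrrCharacter G, ψ ≠ triv G ∧ I.χ ≠ ψ ∧ (ψ : G → ℂ) 1 = p ∧
      (∀ i, i ≠ 0 → (ψ : G → ℂ) (S.xp i) = 0) ∧ (fun g : G => (Nat.card (fixedBy Ω g) : ℂ)) =
        (triv G : G → ℂ) + (I.χ : G → ℂ) + (ψ : G → ℂ) := by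
  classical
  have hπ := H5.isCharacter_perm (G := G) Ω
  have h0 : classInner (fun g : G => (Nat.card (fixedBy Ω g) : ℂ)) (triv G) = 1 :=
    H25.classInner_perm_triv
  have k1 := H5.isCharacter_sub_of_constituent hπ (triv G).2 (by rw [h0]; exact one_ne_zero)
  have k2 := H5.isCharacter_sub_of_constituent k1 I.χ.2 (by
    rwa [H5.classInner_sub_left, H5.classInner_irrCharacter, if_neg I.ne.symm, sub_zero])
  have hd' : (I.χ : G → ℂ) 1 = 2 * p - 1 := by
    rw [cast_degree_irr, eq_sub_iff_add_eq]; exact_mod_cast hd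
  have k3 : ((fun g : G => (Nat.card (fixedBy Ω g) : ℂ)) - (triv G : G → ℂ) - (I.χ : G → ℂ)) 1 =
      p := by
    simp only [Pi.sub_apply, triv_apply, hd', fixedBy_one_eq_univ]
    rw [Nat.card_univ, Nat.card_eq_fintype_card, hΩ]
    push_cast; ring
  obtain ⟨ψ, hψ, k4⟩ := H5.exists_irr_constituent k2 fun e => by
    rw [e] at k3; exact natCast_prime_ne_zero k3.symm
  have k5 := sum_mul_degree_le k2 {⟨ψ, hψ⟩} (fun _ => 1) fun η hη m hm => by
    rw [Finset.mem_singleton.1 hη] at hm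
    exact Nat.pos_of_ne_zero (by rintro rfl; exact k4 (by simpa using hm))
  rw [Finset.sum_singleton, one_mul, charDegree_eq k3] at k5
  have h3 := I.ne_two
  have h4 := hp.out.two_le
  have hχ : I.χ ≠ ⟨ψ, hψ⟩ := fun e => by rw [← e] at k5; omega
  have ht : (⟨ψ, hψ⟩ : IrrCharacter G) ≠ triv G := fun e => k4 (by
    rw [show ψ = triv G from congrArg Subtype.val e, H5.classInner_sub_left, H5.classInner_sub_left,
      h0, H5.classInner_irrCharacter, H5.classInner_irrCharacter, if_pos rfl, if_neg I.ne]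
    ring)
  have hX : (⟨ψ, hψ⟩ : IrrCharacter G) ∉ I.B.X := fun h => (I.mem_X h).elim ht hχ.symm
  have hY : (⟨ψ, hψ⟩ : IrrCharacter G) ∉ I.B.Y := fun h => k4 (by
    rw [H5.classInner_sub_left, H5.classInner_sub_left, show classInner _ ψ = 0 from h2 _ h,
      show classInner (triv G : G → ℂ) ψ = _ from H5.classInner_irrCharacter _ ⟨ψ, hψ⟩,
      show classInner (I.χ : G → ℂ) ψ = _ from H5.classInner_irrCharacter _ ⟨ψ, hψ⟩,
      if_neg ht.symm, if_neg hχ]
    ring)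
  have k6 : p ≤ charDegree ψ := Nat.le_of_dvd (degree_pos ⟨ψ, hψ⟩) (by
    by_contra h; exact (I.B.mem_of_not_dvd I.hV (χ := ⟨ψ, hψ⟩) h).elim hX hY)
  refine ⟨⟨ψ, hψ⟩, ht, hχ, by rw [cast_degree_irr, le_antisymm k5 k6],
    fun i hi => I.B.vanish_out I.hV hX hY hi, funext fun g => ?_⟩
  have := eq_sum_of_degree_le k2 {⟨ψ, hψ⟩} (by simpa using k4)
    (by rw [Finset.sum_singleton, charDegree_eq k3]; exact k6) g
  simp only [Finset.sum_singleton, Pi.sub_apply, Pi.add_apply] at this ⊢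
  linear_combination this

/-- degree `3p - 1` -/
theorem two_trans (hΩ : Fintype.card Ω = charDegree (I.χ : G → ℂ) + 1)
    (h1 : classInner (fun g : G => (Nat.card (fixedBy Ω g) : ℂ)) I.χ ≠ 0) (g : G) :
    (Nat.card (fixedBy Ω g) : ℂ) = 1 + (I.χ : G → ℂ) g := by
  classical
  have := eq_sum_of_degree_le (H5.isCharacter_perm (G := G) Ω) {triv G, I.χ} (fun ψ hψ => by
    rcases Finset.mem_insert.1 hψ with rfl | hψ
    · rw [show classInner _ (triv G : G → ℂ) = 1 from H25.classInner_perm_triv]; exact one_ne_zero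
    · rwa [Finset.mem_singleton.1 hψ]) (by
      rw [Finset.sum_pair I.ne.symm, degree_triv, perm_degree]; omega) g
  rwa [Finset.sum_pair I.ne.symm] at this

include ht hG in
omit [Fintype G] in
theorem val_chi (hδ : I.B.δ I.χ = -1) {d k : ℕ} (hd : charDegree (I.χ : G → ℂ) = d + 1)
    (hk : d + 2 = (k + 1) * p) : ∃ y : ℤ, (I.χ : G → ℂ) t = y ∧ |y| ≤ k ∧ (4 : ℤ) ∣ d + 1 - y := by
  have h : ((d : ℂ) + 2) = (k + 1) * p := by exact_mod_cast hk
  exact_mod_cast I.val_t ht hG (H5.isCharacter_of_isIrr I.χ.2) (n := d + 1) (m := k)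
    (by rw [cast_degree_irr, hd]) (by
      rw [I.B.sum_X I.mem, cast_degree_irr, hd, hδ]; push_cast; linear_combination h)

end I2

end Cfsg.Agent.H31
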