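import Cfsg.Agent.H31.Nag4

/-! Transitive groups of degree `3p` with `|N(P)| = 2p`: the cases `p - 1` and `3p - 1`. -/

set_option autoImplicit false
set_option linter.unusedSectionVars false

namespace Cfsg.Agent.H31

open Subgroup Cfsg Cfsg.Agent.H35 MulAction
open scoped MatrixGroups

variable {G : Type*} [Group G] [Finite G] {p : ℕ} [hp : Fact p.Prime]
  {Ω : Type*} [Fintype Ω] [MulAction G Ω]

theorem sq_eq_one_of_psl2 {F : Type} [Field F] [Fintype F] {m : ℕ} (hF : Fintype.card F = 2 ^ m)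
    (e : G ≃* PSL(2, F)) (w c : G) (hw : orderOf w = 2) (h : c * w = w * c) : c ^ 2 = 1 := by
  have hm : m ≠ 0 := by rintro rfl; exact Fintype.one_lt_card.ne' hF
  have hev : Even (Fintype.card F) := hF ▸ (Nat.even_pow.2 ⟨even_two, hm⟩)
  haveI : CharP F 2 := ringChar.of_eq (FiniteField.even_card_iff_char_two.2 (Nat.even_iff.1 hev))
  have key : ∀ g : G, g ^ 2 = 1 ∨ Odd (orderOf g) := fun g => by
    have := H66.orderOf_psl2_dvd 2 (e g)
    rw [H66.gcd_two_of_two_eq_zero CharTwo.two_eq_zero, Nat.div_one, Nat.div_one,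
      e.orderOf_eq] at this
    rcases this with h | h | h
    exacts [Or.inl (orderOf_dvd_iff_pow_eq_one.1 h),
      Or.inr ((Nat.Even.sub_odd Fintype.card_pos hev odd_one).of_dvd_nat h),
      Or.inr (hev.add_one.of_dvd_nat h)]
  have hc : Commute c w := h
  rcases key (c * w) with h2 | h2
  · rwa [hc.mul_pow, ← hw, pow_orderOf_eq_one, mul_one, hw] at h2
  refine (key c).resolve_right fun h1 => ?_
  have h3 := ((Commute.refl c).mul_right hc).inv_left.orderOf_mul_dvd_mul_orderOf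
  rw [inv_mul_cancel_left, hw, orderOf_inv] at h3
  exact (h1.mul h2).not_two_dvd_nat h3

theorem case_zero [IsSimpleGroup G] (h : ∀ w c : G, orderOf w = 2 → c * w = w * c → c ^ 2 = 1)
    {m q : ℕ} (hq : q + 1 = 2 ^ m) (h2 : 1 < q) (hc : Nat.card G = (q + 2) * (q + 1) * q)
    (S : Sylow 2 G) {H : Subgroup G} (hH : IsCoatom H) (hS : (S : Subgroup G) ≤ H)
    (hi : H.index = 3 * (q + 2)) : False := by
  have h1 : q + 1 ∣ Nat.card (S : Subgroup G) := hq ▸ S.pow_dvd_card_of_pow_dvd_card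
    (hq ▸ hc ▸ (dvd_mul_left _ _).mul_right _)
  have h3 := H21.card_inf_mul_relIndex (normalizer (S : Set G)) H
  have h4 := H.card_mul_index
  rw [hi, hc] at h4
  have h5 : Nat.card H * 3 = (q + 1) * q :=
    Nat.eq_of_mul_eq_mul_left (show 0 < q + 2 by omega) (by linarith)
  have h6 := (Nat.le_of_dvd Nat.card_pos h1).trans (card_le_of_le (le_inf le_normalizer hS))
  have h7 : (normalizer (S : Set G)).relIndex H ≤ q := by
    by_contra! h7
    have := Nat.mul_le_mul h6 h7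
    change _ ≤ Nat.card ↥(normalizer (S : Set G) ⊓ H) * _ at this
    nlinarith
  have h8 := Nat.eq_zero_of_dvd_of_lt (h1.trans (card_dvd_of_ti h S hS)) (by omega)
  have h9 : (normalizer (S : Set G)).relIndex H ≠ 0 := index_ne_zero_of_finite
  rcases (relIndex_eq_one.1 (by omega) : H ≤ normalizer (S : Set G)).eq_or_lt with e | e
  · have := h1.trans (card_dvd_of_ti h S le_top)
    rw [relIndex_top_right, ← e, hi, show 3 * (q + 2) - 1 = (q + 1) * 3 + 2 by omega] at this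
    have := Nat.le_of_dvd two_pos ((Nat.dvd_add_right (dvd_mul_right _ _)).1 this)
    omega
  · rcases (normalizer_eq_top_iff.1 (hH.2 _ e)).eq_bot_or_eq_top with e | e
    · rw [e, card_bot, Nat.dvd_one] at h1; omega
    · exact hH.1 (top_le_iff.1 (e ▸ hS))

theorem three_end [IsSimpleGroup G] (hG : ¬ IsMulCommutative G)
    (h3 : ∀ u : G, orderOf u = 2 → (fixedBy Ω u).ncard = 3) (hΩ : Fintype.card Ω = 3 * p)
    (hp3 : 3 < p) (hd : p ∣ Nat.card G) (h4 : p % 8 = 5) (h8 : padicValNat 2 (Nat.card G) = 3)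
    {t : G} (ht : orderOf t = 2) : (Nat.card G = 2520 ∧ p = 5) ∨
      ∃ τ m, τ ≤ m + 1 ∧ τ.Coprime (m * (τ + m)) ∧ 0 < τ ∧
      Nat.card G = 2 * τ * m * (τ + m) ∧ Nat.card (centralizer ({t} : Set G)) = 2 * τ := by
  obtain ⟨S⟩ : Nonempty (Sylow 2 G) := inferInstance
  obtain ⟨α, hα⟩ := exists_fixed (Ω := Ω) S (Nat.odd_iff.2 (by omega))
  obtain ⟨n, hn, hS⟩ := dihedral_of_three hG h3 S hα (by
    rw [S.card_eq_multiplicity, Nat.factorization_def _ Nat.prime_two, h8]; rfl) (by omega)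
  refine (gw_num hG S hn hS ht).imp_left fun h => ⟨h, ?_⟩
  have := prime_cases hp.out hp3 (h ▸ hd)
  omega

namespace I2

variable {S : Setup G p} (I : I2 S) {t : S.K} (ht : orderOf (t : G) = 2)
  (hK : ∀ k : S.K, k = 1 ∨ k = t) (hκ : S.κ t = -1) [IsSimpleGroup G] (hG : commutator G = ⊤)
  (hG' : ¬ IsMulCommutative G) [Fintype G] [IsPretransitive G Ω] [Nonempty Ω]

include ht hK hκ hG hG' in
theorem case_two (hp3 : 3 < p) (hΩ : Fintype.card Ω = 3 * p) (hδ : I.B.δ I.χ = -1)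
    (hε : I.B.ε = -1) {d : ℕ} (hd : charDegree (I.χ : G → ℂ) = d + 1) (hdv : d ∣ Nat.card G)
    (hk : d + 2 = (2 + 1) * p)
    (h1 : classInner (fun g : G => (Nat.card (fixedBy Ω g) : ℂ)) I.χ ≠ 0) : False := by
  obtain ⟨y, hy, k1, k2⟩ := I.val_chi ht hG hδ hd hk
  have hπ := I.two_trans (by omega) h1 t
  rw [hy, Nat.card_coe_set_eq] at hπ
  have h2 : ((fixedBy Ω (t : G)).ncard : ℤ) = 1 + y := by exact_mod_cast hπ
  have hfix : ∀ u : G, orderOf u = 2 → ((fixedBy Ω u).ncard : ℤ) = 1 + y := fun u hu => by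
    rw [ncard_fixedBy_conj (I.one_class ht hK hG hδ hε hu), h2]
  have hpo := Nat.odd_iff.1 (hp.out.odd_of_ne_two (by omega))
  have hpG : p ∣ Nat.card G := S.hx ▸ orderOf_dvd_natCard S.x
  have h2G : 2 ∣ Nat.card G := ht ▸ orderOf_dvd_natCard (t : G)
  have hcl := fun s => I.one_class ht hK hG hδ hε (s := s)
  have hdo : Odd d := Nat.odd_iff.2 (by omega)
  obtain ⟨Q⟩ : Nonempty (Sylow 2 G) := inferInstance
  obtain ⟨α, hα⟩ := exists_fixed (Ω := Ω) Q (Nat.odd_iff.2 (by omega))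
  rw [abs_le] at k1
  obtain rfl | rfl : y = 0 ∨ y = 2 := by omega
  · have hf := I.order_formula ht hK hκ hδ hε hd (by omega) (y := 0) (by simpa using hy)
      (zero_add _).symm
    obtain ⟨h3, h4⟩ := two_val Q ht hcl (Nat.odd_iff.2 hpo) d.succ_ne_zero hf
    rw [val_mul_odd d.succ_ne_zero hdo] at h4
    refine bender_num hG' (H := stabilizer G α) ⟨fun e => ?_, ?_, fun g hg => ?_⟩ (p := p) (a := d)
      (by omega) (by omega) (fun j hj => ?_) ?_ hf
    · have := H25.card_mul_card_stabilizer (G := G) α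
      rw [e, card_top, hΩ] at this
      have := Nat.eq_of_mul_eq_mul_right Nat.card_pos (this.trans (one_mul _).symm)
      omega
    · exact even_iff_two_dvd.2 ((Q.dvd_card_of_dvd_card h2G).trans (card_dvd_of_le hα))
    · refine Nat.not_even_iff_odd.1 fun h => hg ?_
      obtain ⟨u, ⟨hu, v, hv, rfl⟩, hu2⟩ := exists_invol_of_even h.two_dvd
      obtain ⟨β, hβ⟩ := Set.ncard_eq_one.1 (show (fixedBy Ω _).ncard = 1 by
        exact_mod_cast hfix _ hu2)
      have h5 : g • α ∈ fixedBy Ω (g * v * g⁻¹) := by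
        rw [mem_fixedBy, mul_smul, inv_smul_smul, mul_smul, show v • α = α from hv]
      exact (hβ ▸ h5 : g • α ∈ ({β} : Set Ω)).trans (hβ ▸ hu : α ∈ ({β} : Set Ω)).symm
    · rw [padicValNat_dvd_iff_le Nat.card_pos.ne'] at hj
      exact (padicValNat_dvd_iff_le d.succ_ne_zero).2 (by omega)
    · refine Nat.Coprime.mul_dvd_of_dvd_of_dvd ((Nat.Prime.coprime_iff_not_dvd hp.out).2 fun h => ?_)
        hpG (Nat.Coprime.mul_dvd_of_dvd_of_dvd (by simp) (hd ▸ H16.dg_dvd I.χ) hdv)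
      have h5 : p ∣ d + 2 := hk ▸ dvd_mul_left _ _
      rcases (Nat.Prime.dvd_mul hp.out).1 h with h | h
      · have := Nat.le_of_dvd one_pos ((Nat.dvd_add_right h).1 h5); omega
      · have := Nat.le_of_dvd two_pos ((Nat.dvd_add_right h).1 h5); omega
  · obtain ⟨σ, rfl⟩ : ∃ σ, p = 4 * σ + 1 := ⟨p / 4, by omega⟩
    obtain rfl : d = 12 * σ + 1 := by omega
    have hσ : 12 * σ ≠ 0 := by omega
    have hf := I.order_formula ht hK hκ hδ hε hd (by omega) (y := 2) (by simpa using hy)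
      (e := 12 * σ) (by omega)
    obtain ⟨h3, h4⟩ := two_val Q ht hcl (Nat.odd_iff.2 hpo) hσ hf
    rw [val_mul_odd (by omega) hdo, show 12 * σ + 1 + 1 = 2 * (6 * σ + 1) by ring,
      val_mul_odd two_ne_zero (Nat.odd_iff.2 (by omega)), padicValNat_self] at h4
    have h5 : ∀ u : G, orderOf u = 2 → (fixedBy Ω u).ncard = 3 := fun u hu => by
      exact_mod_cast hfix u hu
    obtain ⟨z, j, hz, hj, h6⟩ := exists_T h5 Q hα h2G
    have h7 := card_fixing_dvd h5 Q.isPGroup' hz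
    rw [hj, hΩ, show 3 * (4 * σ + 1) - 3 = 12 * σ by omega, padicValNat_dvd_iff_le hσ] at h7
    have h8 := (padicValNat_dvd_iff_le (p := 2) (n := 2) hσ).1 (by omega)
    have h9 := mt (padicValNat_dvd_iff_le (p := 2) (n := 3) hσ).1 (by omega)
    rcases three_end hG' h5 hΩ hp3 hpG (by omega) (by omega) ht with ⟨h, e⟩ | ⟨τ, m, k3, -, k4, k5, k6⟩
    · obtain rfl : σ = 1 := by omega
      rw [h] at hdv; omega
    · exact gw_three (by omega) ((Nat.coprime_primes hp.out Nat.prime_three).2 (by omega)) k3 k4 k5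
        k6 hf

end I2

end Cfsg.Agent.H31
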