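import Cfsg.Agent.H31.Nag5

/-! Transitive groups of degree `3p` with `|N(P)| = 2p`: the rank 3 case. -/

set_option autoImplicit false
set_option linter.unusedSectionVars false

namespace Cfsg.Agent.H31

open Subgroup Cfsg Cfsg.Agent.H35 MulAction

variable {G : Type*} [Group G] [Finite G] {p : ℕ} [hp : Fact p.Prime]
  {Ω : Type*} [Fintype Ω] [MulAction G Ω]

theorem rho_mod {p ρ : ℤ} (hp : p % 2 = 1) (h : 2 * p = 6 * ρ ^ 2 + 3 * ρ + 1) :
    ∃ σ, ρ = 4 * σ + 1 := by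
  obtain ⟨σ, rfl | rfl | rfl | rfl⟩ : ∃ σ, ρ = 4 * σ ∨ ρ = 4 * σ + 1 ∨ ρ = 4 * σ + 2 ∨ ρ = 4 * σ + 3 :=
    ⟨ρ / 4, by omega⟩
  any_goals ring_nf at h; omega
  exact ⟨σ, rfl⟩

theorem rho_unique {ρ ρ' : ℤ} (h : 6 * ρ ^ 2 + 3 * ρ + 1 = 6 * ρ' ^ 2 + 3 * ρ' + 1) : ρ = ρ' := by
  have : (ρ - ρ') * (2 * (ρ + ρ') + 1) = 0 := by linarith
  rcases mul_eq_zero.1 this with e | e <;> omega

theorem rho_not_dvd {p σ : ℤ} (h : 2 * p = 6 * (4 * σ + 1) ^ 2 + 3 * (4 * σ + 1) + 1) :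
    ¬ p + (4 * σ + 1) ∣ 3 * p - 1 := by
  rintro ⟨w, hw⟩
  have h1 : (3 * σ + 1) * (4 * ((8 * σ + 3) * (3 - w)) - 8) = 0 := by
    linear_combination 2 * hw - (3 - w) * h
  have h2 : (8 * σ + 3) * (3 - w) = 2 := by
    rcases mul_eq_zero.1 h1 with e | e <;> omega
  have := Int.le_of_dvd two_pos ((abs_dvd _ _).2 (Dvd.intro _ h2))
  rw [abs_le] at this
  omega

theorem rho_final {p τ w : ℤ} (h : 2 * p = 6 * (8 * τ + 1) ^ 2 + 3 * (8 * τ + 1) + 1)
    (hw : 3 * ((2 * p - 1 - (8 * τ + 1)) * w) = (2 * p - 1) * (2 * p - 2)) : p = 5 := by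
  rw [h] at hw
  have h1 : (8 * τ + 1) * (24 * ((6 * τ + 1) * (2304 * τ ^ 2 + 768 * τ + 55 - 18 * w)) - 24) = 0 := by
    linear_combination (-18) * hw
  have h2 : (6 * τ + 1) * (2304 * τ ^ 2 + 768 * τ + 55 - 18 * w) = 1 := by
    rcases mul_eq_zero.1 h1 with e | e <;> omega
  obtain rfl : τ = 0 := by rcases Int.eq_one_or_neg_one_of_mul_eq_one h2 with e | e <;> omega
  omega

theorem rank_le_two {a b : Ω} (hab : b ≠ a)
    (h : Nat.card (orbit (stabilizer G a) b) + 1 = Fintype.card Ω) :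
    Nat.card (orbitRel.Quotient (stabilizer G a) Ω) ≤ 2 := by
  have h1 : orbit (stabilizer G a) b = {a}ᶜ := Set.eq_of_subset_of_ncard_le (by
    rintro _ ⟨g, rfl⟩ e
    exact hab (MulAction.injective g (e.trans g.2.symm))) (by
    rw [Set.ncard_compl, Set.ncard_singleton, Nat.card_eq_fintype_card, ← h, Nat.card_coe_set_eq]
    rfl)
  refine (Nat.card_le_card_of_surjective (fun x : Bool => if x then Quotient.mk'' a else
    Quotient.mk'' b) fun q => ?_).trans (by simp)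
  obtain ⟨c, rfl⟩ := q.exists_rep
  by_cases hc : c = a
  · exact ⟨true, by simp [hc]⟩
  · exact ⟨false, (Quotient.sound (show c ∈ orbit _ b from h1 ▸ hc)).symm⟩

namespace I2

variable {S : Setup G p} (I : I2 S) {t : S.K} (ht : orderOf (t : G) = 2)
  (hK : ∀ k : S.K, k = 1 ∨ k = t) (hκ : S.κ t = -1) [IsSimpleGroup G] (hG : commutator G = ⊤)
  (hG' : ¬ IsMulCommutative G) [Fintype G] [IsPretransitive G Ω] [Nonempty Ω]

include ht hK hκ hG hG' in
theorem case_one (hp3 : 3 < p) (hΩ : Fintype.card Ω = 3 * p) (hδ : I.B.δ I.χ = -1)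
    (hε : I.B.ε = -1) {d : ℕ} (hd : charDegree (I.χ : G → ℂ) = d + 1)
    (hk : d + 2 = (1 + 1) * p)
    (h1 : classInner (fun g : G => (Nat.card (fixedBy Ω g) : ℂ)) I.χ ≠ 0)
    (h2 : ∀ φ ∈ I.B.Y, classInner (fun g : G => (Nat.card (fixedBy Ω g) : ℂ)) φ = 0) :
    p = 5 ∧ Nat.card G = 360 := by
  classical
  obtain ⟨ψ, k1, k2, k3, k4, hπ⟩ := I.third hΩ (by omega) h1 h2
  obtain ⟨y, hy, y1, y2⟩ := I.val_chi ht hG hδ hd hk
  have hpo := Nat.odd_iff.1 (hp.out.odd_of_ne_two (by omega))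
  have hpG : p ∣ Nat.card G := S.hx ▸ orderOf_dvd_natCard S.x
  have h2G : 2 ∣ Nat.card G := ht ▸ orderOf_dvd_natCard (t : G)
  have hcl := fun s => I.one_class ht hK hG hδ hε (s := s)
  rw [abs_le] at y1
  obtain rfl : y = 1 := by omega
  obtain ⟨Q⟩ : Nonempty (Sylow 2 G) := inferInstance
  obtain ⟨a, ha⟩ := exists_fixed (Ω := Ω) Q (Nat.odd_iff.2 (by omega))
  have hd0 : d ≠ 0 := by omega
  have hf := I.order_formula ht hK hκ hδ hε hd hd0 (y := 1) (by simpa using hy) (add_comm _ _)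
  obtain ⟨-, h4⟩ := two_val Q ht hcl (Nat.odd_iff.2 hpo) hd0 hf
  rw [mul_comm (d + 1), val_mul_odd hd0 (Nat.odd_iff.2 (by omega))] at h4
  have hsrg : ∀ b, b ≠ a → ∃ ρ : ℤ, 2 * (p : ℤ) = 6 * ρ ^ 2 + 3 * ρ + 1 ∧
      ((Nat.card (orbit (stabilizer G a) b) : ℤ) = p + ρ ∨
        (Nat.card (orbit (stabilizer G a) b) : ℤ) = 2 * p - 1 - ρ) := fun b hb => by
    obtain ⟨r, s, e1, e2⟩ := srg_eqs I.ne k1 k2 hπ (d := d + 1) (by rw [cast_degree_irr, hd]) k3
      hp.out.ne_zero (x := S.xp 1) (by rw [I.valχ one_ne_zero, hδ]; simp) (k4 1 one_ne_zero) hb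
    rw [show ((d + 1 : ℕ) : ℤ) = 2 * p - 1 by omega] at e1 e2
    haveI : Nonempty (orbit (stabilizer G a) b) := ⟨⟨b, mem_orbit_self b⟩⟩
    refine (srg_arith (by omega) (by exact_mod_cast Nat.card_pos) e1
      (by rw [e2, hΩ]; push_cast; ring)).resolve_left fun h => ?_
    have h5 := H25.classInner_perm_self (G := G) a
    simp only [hπ, H5.classInner_add_left, H5.classInner_add_right, H5.classInner_irrCharacter,
      I.ne, I.ne.symm, k1, k1.symm, k2, k2.symm, if_true, if_false] at h5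
    have h6 : 3 = Nat.card (orbitRel.Quotient (stabilizer G a) Ω) := by
      generalize Nat.card (orbitRel.Quotient (stabilizer G a) Ω) = x at h5
      norm_num at h5; exact_mod_cast h5
    have := rank_le_two (G := G) hb (by omega)
    omega
  haveI : Nontrivial Ω := Fintype.one_lt_card_iff_nontrivial.1 (by omega)
  obtain ⟨b, hb⟩ := exists_ne a
  obtain ⟨ρ, hρ, h5⟩ := hsrg b hb
  obtain ⟨σ, rfl⟩ := rho_mod (by omega) hρ
  obtain ⟨b, hb, hl⟩ : ∃ b, b ≠ a ∧
      (Nat.card (orbit (stabilizer G a) b) : ℤ) = 2 * p - 1 - (4 * σ + 1) := by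
    by_contra! h
    have h6 : ∀ c, c ≠ a → (Nat.card (orbit (stabilizer G a) c) : ℤ) = p + (4 * σ + 1) :=
      fun c hc => by
        obtain ⟨ρ', e, e'⟩ := hsrg c hc
        obtain rfl := rho_unique (hρ.symm.trans e)
        exact e'.resolve_right (h c hc)
    have h7 := H77.dvd_card_of_forall_orbit (G := stabilizer G a) ({a}ᶜ : Set Ω)
      (fun g c hc e => hc (MulAction.injective g (e.trans g.2.symm)))
      (Nat.card (orbit (stabilizer G a) b)) fun c hc => by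
        rw [show Nat.card (orbit (stabilizer G a) b) = Nat.card (orbit (stabilizer G a) c) by
          exact_mod_cast (h6 b hb).trans (h6 c hc).symm]
    rw [Set.ncard_compl, Set.ncard_singleton, Nat.card_eq_fintype_card (α := Ω), hΩ,
      ← Int.natCast_dvd_natCast, h6 b hb, Nat.cast_pred (by omega)] at h7
    exact rho_not_dvd hρ (by exact_mod_cast h7)
  have hN := H25.card_mul_card_stabilizer (G := G) a
  rw [← H26.card_orbit_mul_card_inf _ b, hΩ] at hN
  generalize Nat.card (orbit (stabilizer G a) b) = l at hl hN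
  have hl' : (l : ℤ) = 8 * ((4 * σ + 1) * (3 * σ + 1)) := by rw [hl, hρ]; ring
  obtain ⟨l, rfl⟩ : 8 ∣ l := by omega
  have h0 : Nat.card G ≠ 0 := Nat.card_pos.ne'
  have h6 := (padicValNat_dvd_iff_le (p := 2) (n := 3) h0).1
    (hN ▸ ((dvd_mul_right _ _).mul_right _).mul_left _)
  have h7 := (padicValNat_dvd_iff_le (p := 2) (n := 3) hd0).2 (by omega)
  obtain ⟨τ, rfl⟩ : ∃ τ, σ = 2 * τ := ⟨σ / 2, by ring_nf at hρ; omega⟩
  have hp8 : p % 8 = 5 ∨ p % 8 = 1 := by omega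
  obtain ⟨y, hy', y1, y2⟩ := I.val_t ht hG (H5.isCharacter_of_isIrr ψ.2) k3 (m := 1) (by
    rw [k3, Finset.sum_eq_zero fun i hi => k4 i (Finset.ne_of_mem_erase hi)]; simp)
  rw [abs_le] at y1
  obtain rfl : y = 1 := by omega
  have h3 : ∀ u : G, orderOf u = 2 → (fixedBy Ω u).ncard = 3 := fun u hu => by
    have := congrFun hπ t
    simp only [Pi.add_apply, hy, hy', triv_apply, Nat.card_coe_set_eq] at this
    rw [ncard_fixedBy_conj (hcl u hu)]
    norm_num at this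
    exact_mod_cast this
  obtain ⟨z, j, hz, hj, h8⟩ := exists_T h3 Q ha h2G
  have hodd : Odd (Nat.card ↥(stabilizer G a ⊓ stabilizer G b)) := by
    refine Nat.not_even_iff_odd.1 fun h => ?_
    obtain ⟨u, hu, hu2⟩ := exists_invol_of_even h.two_dvd
    obtain ⟨g, rfl⟩ := isConj_iff.1 ((hcl z hz).symm.trans (hcl u hu2))
    have h9 : ∀ c : Ω, (g * z * g⁻¹) • c = c → ∀ s ∈ fixingSubgroup G (fixedBy Ω z),
        (g * s * g⁻¹) • c = c := fun c hc s hs => by
      rw [mul_smul, mul_smul, (mem_fixingSubgroup_iff G).1 hs (g⁻¹ • c)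
        (by rwa [mul_smul, mul_smul, smul_eq_iff_eq_inv_smul] at hc), smul_inv_smul]
    have h10 : (fixingSubgroup G (fixedBy Ω z) ⊓ Q).map (MulAut.conj g).toMonoidHom ≤
        stabilizer G a ⊓ stabilizer G b := by
      rintro _ ⟨s, hs, rfl⟩
      exact ⟨h9 a hu.1 s hs.1, h9 b hu.2 s hs.1⟩
    have h11 := card_dvd_of_le h10
    rw [card_map_of_injective (MulAut.conj g).injective, hj] at h11
    have := (padicValNat_dvd_iff_le (p := 2) (n := 3 + j) h0).1 (by
      rw [← hN, pow_add]; exact (mul_dvd_mul (dvd_mul_right _ _) h11).mul_left _)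
    omega
  have hlo : Odd l := by
    have : (l : ℤ) = (4 * (2 * τ) + 1) * (3 * (2 * τ) + 1) := by push_cast at hl'; omega
    rw [← Int.odd_coe_nat, this]
    exact (Int.odd_iff.2 (by omega)).mul (Int.odd_iff.2 (by omega))
  have h9 : padicValNat 2 (Nat.card G) = 3 := by
    rw [← hN, mul_comm, val_mul_odd (mul_ne_zero (by have := hlo.pos; omega) hodd.pos.ne')
      (Nat.odd_iff.2 (by omega)), mul_assoc, val_mul_odd (by norm_num) (hlo.mul hodd)]
    exact padicValNat.prime_pow 3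
  have h10 := mt (padicValNat_dvd_iff_le (p := 2) (n := 4) hd0).1 (by omega)
  rcases three_end hG' h3 hΩ hp3 hpG (by omega) h9 ht with ⟨h, rfl⟩ | ⟨m, n, -, e1, e2, e3, e4⟩
  · obtain rfl : d = 8 := by omega
    rw [h] at hf
    generalize Nat.card (centralizer ({(t : G)} : Set G)) = c at hf
    have : c ≤ 21 ∨ 22 ≤ c := by omega
    rcases this with e | e <;> nlinarith
  · obtain ⟨c, rfl⟩ : ∃ c, p = c + 1 := ⟨p - 1, by omega⟩
    obtain rfl : d = 2 * c := by omega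
    have h11 := gw_two (by omega) e1 e2 e3 e4 hf
    generalize Nat.card ↥(stabilizer G a ⊓ stabilizer G b) = w at hN
    have h12 : 3 * (8 * l * w) = (2 * c + 1) * (2 * c) :=
      Nat.eq_of_mul_eq_mul_left (show 0 < c + 1 by omega) (by rw [← h11, ← hN]; ring)
    have h13 := rho_final (p := (c + 1 : ℕ)) (τ := τ) (w := w) (by rw [hρ]; ring) (by
      rw [show 8 * τ + 1 = 4 * (2 * τ) + 1 by ring, ← hl]
      zify at h12; push_cast; linear_combination h12)
    obtain rfl : c = 4 := by omega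
    exact ⟨rfl, h11⟩

end I2

end Cfsg.Agent.H31
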