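import Cfsg.Agent.H6.CSGraph
import Cfsg.Agent.H6.Cs3
import Cfsg.Agent.H8.PETools
import Cfsg.Agent.H82.ClassSize

/-! Groups whose two largest conjugacy class sizes are coprime. -/

set_option autoImplicit false
set_option linter.unusedSectionVars false

namespace Cfsg.Agent.H31

open Subgroup Cfsg.Agent Cfsg.Agent.H49 Cfsg.Agent.H83 Cfsg.Agent.H6
open Cfsg.Agent.H8 (PE mem_of_forall_PE exists_PE_of_not_mem exists_PE_of_dvd_relIndex)
open scoped Pointwise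

variable {G : Type*} [Group G] [Finite G] {π : Set ℕ} {m n : ℕ} {x y : G}

theorem eq_one_of_conj_eq {s d z : G} (hs : IsPiElt π s) (hd : IsPiElt πᶜ d) (e : d * s * d⁻¹ = s * z)
    (h1 : Commute z s) (h2 : Commute z d) : z = 1 := by
  have e1 : z = s⁻¹ * (d * s * d⁻¹) := by rw [e]; group
  have e2 : s⁻¹ * d * s⁻¹⁻¹ = z * d := by rw [e1]; group
  have e3 : z = s⁻¹ * d * s⁻¹⁻¹ * d⁻¹ := by rw [e2]; group
  refine IsPiElt.eq_one (π := π) (e1 ▸ IsPiElt.mul (hs.of_dvd (orderOf_inv s).dvd) (isPiElt_conj.2 hs) ?_)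
    (e3 ▸ IsPiElt.mul (isPiElt_conj.2 hd) (hd.of_dvd (orderOf_inv d).dvd) ?_)
  · rw [e]; exact ((Commute.refl s).mul_right h1.symm).inv_left
  · rw [e2]; exact (h2.mul_left (Commute.refl d)).inv_right

theorem exists_stab' (h : cs(x).Coprime cs(y)) (hy : cs(x * y) ≤ cs(y)) : ∃ K : Subgroup G, K.Normal ∧
    Nat.card K ∣ cs(y) ∧ ∀ g, x⁻¹ * (g * x * g⁻¹) ∈ K := by
  let S : G → Set G := fun y => {u | IsConj y u}
  have hS : ∀ y, (S y).ncard = cs(y) := fun y => card_isConj y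
  have hm : ∀ k, k ∈ MulAction.stabilizer G (S y) ↔ ∀ u, IsConj y u → IsConj y (k * u) := fun k =>
    MulAction.mem_stabilizer_set' (Set.toFinite _)
  refine ⟨MulAction.stabilizer G (S y), ⟨fun k hk g => (hm _).2 fun u hu => ?_⟩, hS y ▸
    H91.card_dvd_ncard_free _ (fun k u hu => (hm _).1 k.2 u hu)
      fun k u _ e => Subtype.ext (mul_eq_right.1 e), fun g => ?_⟩
  · exact ((hm k).1 hk _ (hu.trans (isConj_iff.2 ⟨g⁻¹, rfl⟩))).trans
      (isConj_iff.2 ⟨g, by group⟩)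
  have key : ∀ g, (g * x * g⁻¹) • S y = S (x * y) := fun g => Set.eq_of_subset_of_ncard_le (by
      rintro _ ⟨u, hu, rfl⟩
      obtain ⟨k, rfl⟩ := isConj_iff.1 hu
      obtain ⟨c, h1, h2⟩ := exists_conj_pair h g k
      exact isConj_iff.2 ⟨c, by simp only [smul_eq_mul]; rw [h1, h2]; group⟩)
    (by rw [Set.ncard_smul_set, hS, hS]; exact hy)
  have h1 := key 1
  rw [one_mul, inv_one, mul_one] at h1
  rw [MulAction.mem_stabilizer_iff, mul_smul, key, ← h1, inv_smul_smul]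

/-- `m > n` are the two largest class sizes; `x ∈ Z(O_π(G))` has class size `n`. -/
structure Two (π : Set ℕ) (m n : ℕ) (x : G) : Prop where
  hn : 1 < n
  hmn : n < m
  pm : IsPiNat π m
  pn : IsPiNat πᶜ n
  two : ∀ z : G, cs(z) = m ∨ cs(z) ≤ n
  ex : ∃ y : G, cs(y) = m
  hx : cs(x) = n
  xO : x ∈ piCoreOf π (⊤ : Subgroup G) ⊓ 𝒞(piCoreOf π ⊤)

theorem normal_piCore (π : Set ℕ) : (piCoreOf π (⊤ : Subgroup G)).Normal :=
  normal_iff_top_le_norm.2 (le_norm_piCoreOf _ _)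

theorem PE_eq_one {p : ℕ} (hp : p.Prime) {u : G} (h : PE p u) (hu : IsPiElt π u) (hπ : p ∉ π) : u = 1 :=
  IsPiElt.eq_one hu (((pe_iff hp).1 h).mono (by simpa using hπ))

theorem index_inf (H K : Subgroup G) : (H ⊓ K).index = H.relIndex K * K.index := by
  rw [← relIndex_mul_index (inf_le_right : H ⊓ K ≤ K), inf_relIndex_right]

namespace Two

variable (h : Two π m n x)
include h

theorem of {a : G} (ha : cs(a) = n) (h' : a ∈ piCoreOf π (⊤ : Subgroup G) ⊓ 𝒞(piCoreOf π ⊤)) :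
    Two π m n a := { h with hx := ha, xO := h' }

theorem conj (g : G) : Two π m n (g * x * g⁻¹) :=
  h.of ((cs_conj g x).trans h.hx) (conj_mem_of_norm (norm_inf (le_norm_piCoreOf _ _)
    (norm_cent (le_norm_piCoreOf _ _))) (mem_top g) h.xO)

theorem top (z : G) : cs(z) ≤ m := (h.two z).elim Eq.le fun e => e.trans h.hmn.le

theorem xpi : IsPiElt π x := (piCoreOf_pi _ _).elt h.xO.1

theorem cop {w : G} (hw : cs(w) ∣ m) : cs(x).Coprime cs(w) :=
  h.hx ▸ h.pn.coprime' (h.pm.of_dvd hw)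

theorem eq_n {a : G} (ha : n ∣ cs(a)) : cs(a) = n := by
  rcases h.two a with e | e
  · exact absurd ((h.pm.of_dvd (e ▸ ha)).eq_one h.pn) h.hn.ne'
  · exact le_antisymm e (Nat.le_of_dvd (cs_pos a) ha)

theorem le_cent {u : G} (hu : IsPiElt πᶜ u) (hc : u ∈ 𝒞[x]) : 𝒞[x] ≤ 𝒞[u] := by
  have c : Commute x u := (mem_cent1.1 hc).symm
  have co := IsPiNat.coprime h.xpi hu
  have e := cent_mul_of_coprime c co
  rw [← H8.eq_of_le_of_index_eq (e.le.trans inf_le_left)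
    ((h.eq_n (h.hx ▸ cs_dvd_cs_mul_left c co)).trans h.hx.symm)]
  exact e.le.trans inf_le_right

theorem min_cent (hy : cs(y) = m) {u : G} (c : u ∈ 𝒞[y]) (co : (orderOf y).Coprime (orderOf u)) :
    𝒞[y] ≤ 𝒞[u] := by
  replace c : Commute y u := (mem_cent1.1 c).symm
  have e := cent_mul_of_coprime c co
  rw [← H8.eq_of_le_of_index_eq (e.le.trans inf_le_left) (le_antisymm (hy ▸ h.top _)
    (Nat.le_of_dvd (cs_pos _) (cs_dvd_cs_mul_left c co)))]
  exact e.le.trans inf_le_right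

theorem cen {w u : G} (hw : cs(w) ∣ m) (h1 : 𝒞[x] ≤ 𝒞[u]) (h2 : 𝒞[w] ≤ 𝒞[u]) : u ∈ center G :=
  mem_center_iff.2 fun g => mem_cent1.1 ((isProd_cent (h.cop hw)).sup_eq.ge.trans (sup_le h1 h2) trivial)

theorem pi_comm {w : G} (h1 : IsPiElt π w) (hw : cs(w) ∣ m) : w ∈ 𝒞[x] :=
  mem_of_forall_PE _ w fun p hp u hu h2 => by
    by_cases h3 : p ∈ π
    · obtain ⟨g, -, hg⟩ := H8.exists_conj_mem_of_not_dvd (K := 𝒞[x]) le_top hp (by
        rw [relIndex_top_right, h.hx]; exact h.pn.not_dvd hp h3) (mem_top u) h2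
      exact mem_cent1.2 (commute_of_conj (h.cop ((cs_dvd_of_mem_zpowers hu).trans hw)).symm
        (mem_cent1.1 hg))
    · rw [PE_eq_one hp h2 (h1.of_dvd (orderOf_dvd_of_mem_zpowers hu)) h3]; exact one_mem _

theorem not_comm (hy : cs(y) = m) : y ∉ 𝒞[x] := fun hc => by
  obtain ⟨w, hw, z, hz, rfl, h1, h2⟩ := exists_pi_decomp π y
  have h3 : z ∈ center G := h.cen hy.dvd (h.le_cent h2 (zpowers_le.2 hc hz)) (cent_le_cent_of_mem_zpowers hz)
  have h4 : x ∈ 𝒞[w * z] := mem_cent1_comm.1 hc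
  rw [cent_mul_center h3] at hy h4
  obtain ⟨q, hq, h5⟩ := Nat.exists_prime_and_dvd h.hn.ne'
  obtain ⟨v, h6, h7, h8⟩ := exists_PE_of_dvd_relIndex (Y := 𝒞[x]) (X := 𝒞[w]) hq (by
    rw [(isProd_cent (h.cop hy.dvd)).symm.relIndex_eq, relIndex_top_right, h.hx]; exact h5)
  exact h8 (mem_cent1_comm.1 (h.min_cent hy h6 (IsPiNat.coprime h1 (((pe_iff hq).1 h7).mono
    (by simpa using h.pn q hq h5))) h4))

theorem big_of {v : G} (h1 : IsPiElt πᶜ v) (hv : cs(v) ∣ m) (hc : v ∉ 𝒞[x]) : cs(v) = m := by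
  rcases h.two (v * x) with e | e
  · have h2 : cs(v * x) ∣ (𝒞[v] ⊓ 𝒞[x]).index := index_dvd_of_le fun g hg => mem_cent1.2
      ((show Commute g v from mem_cent1.1 hg.1).mul_right (mem_cent1.1 hg.2))
    rw [e, inf_comm, index_inf, (isProd_cent (h.cop hv)).symm.relIndex_eq, relIndex_top_right, h.hx] at h2
    exact Nat.dvd_antisymm hv (h.pm.dvd_of_dvd_mul_left h.pn h2)
  · obtain ⟨K, _, h2, h3⟩ := exists_stab' (h.cop hv).symm (h.hx ▸ e)
    have h4 : IsPi πᶜ (zpowers v ⊔ K) := (isPi_zpowers.2 h1).sup (h.pn.of_dvd (h.hx ▸ h2))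
      (.inl le_normalizer_of_normal)
    have := normal_piCore (G := G) π
    refine absurd (mem_cent1.2 ((piCoreOf_pi π ⊤).cent_of_norm h4 (fun g _ => mem_norm_of_cj_le ?_)
      le_normalizer_of_normal h.xO.1 v (mem_sup_left (mem_zpowers v)))) hc
    rw [cj_sup, cj_zpowers, cj_eq_of_mem_norm (X := K) (le_normalizer_of_normal (mem_top g))]
    refine sup_le (zpowers_le.2 ?_) le_sup_right
    simpa using mul_mem_sup (mem_zpowers v) (h3 g)

theorem exists_v (hy : cs(y) = m) : ∃ q, q.Prime ∧ q ∉ π ∧ ∃ v, PE q v ∧ cs(v) = m ∧ 𝒞[y] = 𝒞[v] := by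
  obtain ⟨q, hq, v, h1, h2, h3⟩ := exists_PE_of_not_mem (h.not_comm hy)
  have h4 : cs(v) ∣ m := hy ▸ cs_dvd_of_mem_zpowers h1
  have h5 : q ∉ π := fun e => h3 (h.pi_comm (((pe_iff hq).1 h2).mono (by simpa using e)) h4)
  have h6 := h.big_of (((pe_iff hq).1 h2).mono (by simpa using h5)) h4 h3
  exact ⟨q, hq, h5, v, h2, h6, H8.eq_of_le_of_index_eq (cent_le_cent_of_mem_zpowers h1) (hy.trans h6.symm)⟩

theorem q_elt {q : ℕ} (hq : q.Prime) (hπ : q ∉ π) {v : G} (hv : PE q v) (h1 : cs(v) = m) {e : G}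
    (he : PE q e) (hc : e ∈ 𝒞[x]) (k : G) : k * e * k⁻¹ ∈ 𝒞[x] ⊓ 𝒞[v] := by
  haveI := Fact.mk hq
  have nd : ¬ q ∣ cs(v) := fun e => hπ (h.pm q hq (h1 ▸ e))
  obtain ⟨g, -, hg⟩ := H8.exists_conj_mem_of_not_dvd (K := 𝒞[v]) le_top hq
    (by rwa [relIndex_top_right]) (mem_top e) he
  obtain ⟨P, h2, h3⟩ := exists_sylow_le_of_not_dvd_index nd (he.conj g).isPGroup_zpowers (zpowers_le.2 hg)
  have h4 : 𝒞[v] ≤ 𝒩(P.1) := relIndex_eq_one.1 (by_contra fun e => by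
    obtain ⟨p, hp, h5⟩ := Nat.exists_prime_and_dvd e
    obtain ⟨u, h6, h7, h8⟩ := exists_PE_of_dvd_relIndex hp h5
    rcases eq_or_ne q p with rfl | h9
    · rw [← inf_relIndex_right] at h5
      exact P.not_dvd_index (h5.trans ((relIndex_dvd_of_le_left _ (le_inf le_normalizer h3)).trans
        (relIndex_dvd_index_of_le h3)))
    · exact h8 (cent_le_norm _ (le_cent1_iff.1 (h3.trans (h.min_cent h1 h6 (hv.coprime_orderOf hq hp h9 h7))))))
  have hq' : ({q} : Set ℕ) ⊆ πᶜ := by simpa using hπ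
  have h5 : g * e * g⁻¹ ∈ P.1.normalCore := fun k => by
    obtain ⟨a, ha, b, hb, rfl⟩ := (isProd_cent ((h.conj g).cop h1.dvd)).symm.2.2 k trivial
    have h6 := mem_cent1.1 ((h.conj g).le_cent (((pe_iff hq).1 (he.conj g)).mono hq')
      (by rw [← cj_cent1]; exact conj_mem_cj.2 hc) hb)
    rw [mul_assoc a, h6, mul_inv_rev, ← mul_assoc, mul_assoc a, mul_inv_cancel_right]
    exact conj_mem_of_norm h4 ha (h2 (mem_zpowers _))
  have h6 : k * e * k⁻¹ ∈ P.1.normalCore := by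
    simpa [mul_assoc] using Normal.conj_mem inferInstance _ h5 (k * g⁻¹)
  have := normal_piCore (G := G) π
  exact ⟨mem_cent1.2 ((piCoreOf_pi π ⊤).cent_of_norm (((isPi_of_isPGroup hq P.isPGroup').of_le
    (normalCore_le _)).mono hq') le_normalizer_of_normal le_normalizer_of_normal h.xO.1 _ h6),
    h3 (normalCore_le _ h6)⟩

theorem central {e : G} (he : IsPiElt πᶜ e) (hc : e ∈ 𝒞[x]) : e ∈ center G := by
  refine mem_of_forall_PE _ e fun r hr u hu h2 => ?_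
  replace hc := zpowers_le.2 hc hu
  replace he := he.of_dvd (orderOf_dvd_of_mem_zpowers hu)
  clear hu
  by_cases h3 : r ∈ π
  · rw [PE_eq_one hr h2 he (by simpa using h3)]; exact one_mem _
  obtain ⟨y, hy⟩ := h.ex
  obtain ⟨q, hq, hπ, v, hv, h1, -⟩ := h.exists_v hy
  rcases eq_or_ne q r with rfl | hqr
  swap
  · obtain ⟨g, -, hg⟩ := H8.exists_conj_mem_of_not_dvd (K := 𝒞[v]) le_top hr
      (by rw [relIndex_top_right]; exact fun e => h3 (h.pm r hr (h1 ▸ e))) (mem_top u) h2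
    by_contra h4
    exact H8.conj_not_mem_center h4 g ((h.conj g).cen h1.dvd ((h.conj g).le_cent (isPiElt_conj.2 he)
      (by rw [← cj_cent1]; exact conj_mem_cj.2 hc)) (h.min_cent h1 hg (hv.coprime_orderOf hq hr hqr (h2.conj g))))
  have h4 := h.le_cent he hc
  refine h.cen h1.dvd h4 fun k hk => ?_
  have h5 : IsProd 𝒞[x] 𝒞[v * u] ⊤ := isProd_of_relIndex_le le_top le_top (by
    rw [relIndex_top_right, ← inf_relIndex_right, show 𝒞[v * u] ⊓ 𝒞[x] = 𝒞[v] ⊓ 𝒞[x] from ?_,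
      inf_relIndex_right, (isProd_cent (h.cop h1.dvd)).relIndex_eq, relIndex_top_right, h1]
    · exact h.top _
    · ext s
      refine and_congr_left fun hs => ?_
      change s ∈ 𝒞[v * u] ↔ s ∈ 𝒞[v]
      rw [mem_cent1, mem_cent1, mul_assoc, ← mem_cent1.1 (h4 hs), ← mul_assoc, ← mul_assoc, mul_left_inj])
  obtain ⟨s, hs, c, hc', rfl⟩ := h5.2.2 k trivial
  obtain ⟨b, hb, a, ha, e1, h6, h7⟩ := exists_pi_decomp {q}ᶜ s
  rw [compl_compl] at h7
  have h8 := (h.q_elt hq hπ hv h1 ((pe_iff hq).2 h7) (zpowers_le.2 hs ha) 1).2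
  have h9 := h.q_elt hq hπ hv h1 h2 hc (s * c)
  have h10 := (h.q_elt hq hπ hv h1 h2 hc 1).2
  rw [one_mul, inv_one, mul_one] at h8 h10
  have hb' := zpowers_le.2 hs hb
  have e2 : b * v * b⁻¹ = v * (s * c * u * (s * c)⁻¹ * u⁻¹) := by
    have e3 : s * c * (v * u) * (s * c)⁻¹ = s * (v * u) * s⁻¹ := by
      rw [mul_assoc s c, mem_cent1.1 hc']; group
    have e4 : s * (v * u) * s⁻¹ = b * v * b⁻¹ * u := by
      rw [← mul_assoc, mul_assoc _ u, ← mem_cent1.1 (h4 (inv_mem hs)), e1, mul_assoc b a, mem_cent1.1 h8]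
      group
    rw [e4, ← mul_assoc (s * c), mem_cent1.1 hk] at e3
    rw [eq_mul_inv_of_mul_eq e3.symm]; group
  have := eq_one_of_conj_eq ((pe_iff hq).1 hv) h6 e2 (mem_cent1.1 (mul_mem h9.2 (inv_mem h10)))
    (Commute.mul_left (mem_cent1.1 (h.le_cent (isPiElt_conj.2 he) h9.1 hb')).symm
      (Commute.inv_left (mem_cent1.1 (h4 hb')).symm))
  exact mem_cent1.2 (mul_inv_eq_iff_eq_mul.1 (mul_inv_eq_one.1 this))

end Two

end Cfsg.Agent.H31
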