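import Cfsg.Agent.H31.TwoCl

/-! Groups whose two largest conjugacy class sizes are coprime, part 2. -/

set_option autoImplicit false
set_option linter.unusedSectionVars false

namespace Cfsg.Agent.H31

open Subgroup Cfsg.Agent Cfsg.Agent.H49 Cfsg.Agent.H83 Cfsg.Agent.H6
open Cfsg.Agent.H8 (PE mem_of_forall_PE exists_PE_of_not_mem exists_PE_of_dvd_relIndex)
open scoped Pointwise

variable {G : Type*} [Group G] [Finite G] {π : Set ℕ} {m n : ℕ} {x y : G}

namespace Two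

variable (h : Two π m n x)
include h

theorem big {d : G} (hd : IsPiElt πᶜ d) (hZ : d ∉ center G) : cs(d) = m := by
  have := normal_piCore (G := G) π
  set A := piCoreOf π (⊤ : Subgroup G) ⊓ 𝒞(piCoreOf π ⊤)
  have hA : IsPi π A := (piCoreOf_pi _ _).inf_left _
  have hAab : IsMulCommutative A := abelian_iff.2 (inf_le_right.trans (cent_anti inf_le_left))
  have hdp := coprime_abelian_dp (A := zpowers d) hAab le_normalizer_of_normal
    ((isPi_zpowers.2 hd).coprime' hA)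
  rw [cent_zpowers] at hdp
  have hn := norm_of_cent hdp.2.2
  obtain ⟨k, hk, l, hl, e⟩ := (mem_sup_of_norm_left hn).1 (hdp.1.ge h.xO)
  have c : Commute d k := (mem_cent1.1 hk.2).symm
  have co := IsPiNat.coprime' hd (hA.elt hk.1)
  have hx' : d ∉ 𝒞[x] := fun e => hZ (h.central hd e)
  rcases h.two (d * k) with e1 | e1
  · exact h.big_of hd ((cs_dvd_cs_mul_left c co).trans e1.dvd) hx'
  exfalso
  have e2 := cent_mul_of_coprime c co
  have h1 : 𝒞[d * k].relIndex A = Nat.card ↥⁅A, zpowers d⁆ := by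
    have h2 := card_inf_mul_relIndex 𝒞[d * k] A
    have h3 := card_sup_of_disjoint (.inr hn) hdp.2.1
    rw [e2, inf_assoc, inf_eq_right.2 (le_cent1_iff.2 (abelian_iff.1 hAab hk.1)), inf_comm, ← e2] at h2
    rw [hdp.1, ← h2] at h3
    exact Nat.eq_of_mul_eq_mul_left Nat.card_pos h3
  obtain ⟨j, hj⟩ : Nat.card ↥⁅A, zpowers d⁆ ∣ cs(d * k) := by
    rw [← h1, ← relIndex_sup_of_norm (.inr le_normalizer_of_normal)]
    exact relIndex_dvd_index_of_le le_sup_right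
  have h2 : 𝒞[x].relIndex 𝒞[d * k] ≤ Nat.card ↥⁅A, zpowers d⁆ := by
    rw [← inf_relIndex_right, show 𝒞[x] ⊓ 𝒞[d * k] = 𝒞[l] ⊓ 𝒞[d * k] from ?_, inf_relIndex_right,
      ← H82.ncard_conj_under]
    · refine Set.ncard_le_ncard ?_
      rintro _ ⟨g, hg, rfl⟩
      exact conj_mem_of_norm (norm_commutator le_normalizer_of_normal (norm_of_cent
        (by rw [cent_zpowers, e2]; exact inf_le_left))) hg hl
    · ext s
      refine and_congr_left fun hs => ?_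
      change s ∈ 𝒞[x] ↔ s ∈ 𝒞[l]
      rw [mem_cent1, mem_cent1, e, ← mul_assoc, mem_cent1.1 (e2.le hs).2, mul_assoc, mul_assoc,
        mul_right_inj]
  have hB : IsPiNat π (Nat.card ↥⁅A, zpowers d⁆) := hA.of_le (le_sup_right.trans hdp.1.le)
  have h3 : n ∣ (𝒞[x] ⊓ 𝒞[d * k]).index := h.hx.symm.dvd.trans (index_dvd_of_le inf_le_left)
  rw [index_inf, hj, mul_left_comm] at h3
  have j0 : 0 < j := Nat.pos_of_ne_zero fun e => cs_ne_zero (d * k) (by rw [hj, e, mul_zero])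
  have h4 := Nat.le_of_dvd (Nat.mul_pos (relIndex_pos _ _) j0)
    ((h.pn.coprime' hB).dvd_of_dvd_mul_left h3)
  have h5 := le_antisymm e1 (h4.trans ((Nat.mul_le_mul_right j h2).trans hj.ge))
  have h6 := card_eq_one.1 (hB.eq_one (h.pn.of_dvd ((Dvd.intro _ hj.symm).trans h5.dvd)))
  rw [h6, mem_bot] at hl
  exact hx' (mem_cent1_comm.1 (by rw [e, hl, mul_one]; exact hk.2))

theorem pi_cases {s : G} (hs : IsPiElt π s) : cs(s) = n ∨ cs(s) ∣ m := by
  by_cases h1 : IsPiNat π (𝒞[x].relIndex 𝒞[s])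
  · have h3 : n ∣ (𝒞[x] ⊓ 𝒞[s]).index := h.hx ▸ index_dvd_of_le inf_le_left
    rw [index_inf] at h3
    exact .inl (h.eq_n ((h.pn.coprime' h1).dvd_of_dvd_mul_left h3))
  · simp only [IsPiNat, not_forall] at h1
    obtain ⟨p, hp, h2, h3⟩ := h1
    obtain ⟨t, h4, h5, h6⟩ := exists_PE_of_dvd_relIndex hp h2
    have h7 : IsPiElt πᶜ t := ((pe_iff hp).1 h5).mono (by simpa using h3)
    have h8 := h.big h7 fun e => h6 (center_le_centralizer _ e)
    exact .inr (h8 ▸ index_dvd_of_le (h.min_cent h8 (mem_cent1_comm.1 h4) (IsPiNat.coprime' h7 hs)))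

theorem two_of {s : G} (hs : IsPiElt π s) (h1 : cs(s) = n) : Two π m n s := by
  obtain ⟨y, hy⟩ := h.ex
  have := normal_piCore (G := G) π
  exact h.of h1 ⟨TopCl.mem_core ⟨fun z => hy ▸ h.top z, hy ▸ h.pm⟩ (h1 ▸ h.pn) hs,
    le_cent1_iff.1 (le_of_normal_pi (piCoreOf_pi _ _) (h1 ▸ h.pn))⟩

theorem pi_mem {s : G} (hs : IsPiElt π s) : s ∈ 𝒞[x] :=
  (h.pi_cases hs).elim (fun e => cent_le_cent1 h.xO.1 (h.two_of hs e).xO.2) (h.pi_comm hs)

theorem decomp {g : G} (hg : g ∈ 𝒞[x]) : ∃ s, IsPiElt π s ∧ ∃ e ∈ center G, g = s * e := by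
  obtain ⟨s, -, e, he, e1, h1, h2⟩ := exists_pi_decomp π g
  exact ⟨s, h1, e, h.central h2 (zpowers_le.2 hg he), e1⟩

theorem cent_le {a : G} (h' : Two π m n a) : 𝒞[x] ≤ 𝒞[a] := fun g hg => by
  obtain ⟨s, hs, e, he, rfl⟩ := h.decomp hg
  exact mul_mem (h'.pi_mem hs) (center_le_centralizer _ he)

theorem normal : 𝒞[x].Normal := normal_iff_top_le_norm.2 fun g _ => mem_norm_of_le_cj (by
  rw [cj_cent1]; exact h.cent_le (h.conj g))

theorem inf_cent (hy : cs(y) = m) {g : G} (h1 : g ∈ 𝒞[x]) (h2 : g ∈ 𝒞[y]) : 𝒞[y] ≤ 𝒞[g] := by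
  obtain ⟨q, hq, hπ, v, hv, h3, e⟩ := h.exists_v hy
  obtain ⟨s, hs, z, hz, rfl⟩ := h.decomp h1
  rw [cent_mul_center hz, e]
  exact h.min_cent h3 ((mul_mem_cancel_right (center_le_centralizer _ hz)).1 (e ▸ h2))
    (IsPiNat.coprime' (((pe_iff hq).1 hv).mono (by simpa using hπ)) hs)

theorem abelian : IsMulCommutative 𝒞[x] := by
  obtain ⟨y, hy⟩ := h.ex
  obtain ⟨q, hq, hπ, v, hv, h3, -⟩ := h.exists_v hy
  haveI := Fact.mk hq
  have nd : ∀ {w : G}, cs(w) ∣ m → ¬ q ∣ cs(w) := fun hw e => hπ (h.pm q hq (e.trans hw))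
  obtain ⟨P, h2, -⟩ := exists_sylow_le_of_not_dvd_index (nd h3.dvd) hv.isPGroup_zpowers
    (zpowers_le_cent v)
  have := h.normal
  have h4 : (𝒞[x] ⊓ 𝒞(𝒞[x])) ⊔ (𝒞[x] ⊓ 𝒞[v]) = 𝒞[x] :=
    H8.eq_of_forall_conj_mem (sup_le inf_le_left inf_le_left) fun g hg => by
      obtain ⟨s, hs, z, hz, rfl⟩ := h.decomp hg
      have h5 : z ∈ 𝒞[x] ⊓ 𝒞(𝒞[x]) := ⟨center_le_centralizer _ hz, center_le_centralizer _ hz⟩
      rcases h.pi_cases hs with e | e
      · refine ⟨1, one_mem _, mem_sup_left ?_⟩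
        rw [one_mul, inv_one, mul_one]
        exact mul_mem ⟨h.pi_mem hs, le_cent1_iff.1 (h.cent_le (h.two_of hs e))⟩ h5
      · obtain ⟨k, hk⟩ := H8.exists_conj_mem_cent_sylow P (nd e)
        obtain ⟨a, ha, b, hb, rfl⟩ := (isProd_cent (h.cop h3.dvd)).symm.2.2 k trivial
        refine ⟨b, hb, ?_⟩
        rw [show b * (s * z) * b⁻¹ = b * s * b⁻¹ * z by
          rw [mul_assoc _ b⁻¹, mem_center_iff.1 hz b⁻¹]; group]
        refine mul_mem (mem_sup_right ⟨h.pi_mem (isPiElt_conj.2 hs), ?_⟩) (mem_sup_left h5)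
        have := mul_mem (mul_mem (inv_mem ha) (cent_le_cent1 (h2 (mem_zpowers v)) hk)) ha
        simpa [mul_assoc] using this
  rw [← h4]
  exact abelian_sup (abelian_iff.2 (inf_le_right.trans (cent_anti inf_le_left)))
    (abelian_iff.2 fun g hg => le_cent1_iff.1 (inf_le_right.trans (h.inf_cent h3 hg.1 hg.2)))
    (inf_le_right.trans (cent_anti inf_le_left))

theorem inf_central (hy : cs(y) = m) {g : G} (h1 : g ∈ 𝒞[x]) (h2 : g ∈ 𝒞[y]) : g ∈ center G :=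
  h.cen hy.dvd (le_cent1_iff.2 (abelian_iff.1 h.abelian h1)) (h.inf_cent hy h1 h2)

theorem comm_of {d a : G} (hd : IsPiElt πᶜ d) (ha : a ∈ 𝒞[x]) (hz : d⁻¹ * (a * d * a⁻¹) ∈ center G) :
    a ∈ 𝒞[d] := by
  obtain ⟨s, hs, z, h1, rfl⟩ := h.decomp ha
  rw [show s * z * d * (s * z)⁻¹ = s * d * s⁻¹ by rw [mul_assoc s, ← mem_center_iff.1 h1]; group] at hz
  have := eq_one_of_conj_eq hd hs.compl_compl (mul_inv_cancel_left d _).symm
    (mem_center_iff.1 hz d).symm (mem_center_iff.1 hz s).symm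
  exact mul_mem (mem_cent1.2 (mul_inv_eq_iff_eq_mul.1 (inv_mul_eq_one.1 this).symm))
    (center_le_centralizer _ h1)

theorem decomp' (hy : cs(y) = m) {g : G} (hg : g ∈ 𝒞[y]) :
    ∃ d ∈ 𝒞[y], IsPiElt πᶜ d ∧ ∃ e ∈ center G, g = d * e := by
  obtain ⟨d, hd, e, he, e1, h1, h2⟩ := exists_pi_decomp πᶜ g
  rw [compl_compl] at h2
  exact ⟨d, zpowers_le.2 hg hd, h1, e, h.inf_central hy (h.pi_mem h2) (zpowers_le.2 hg he), e1⟩

theorem le_cent' (hy : cs(y) = m) {g : G} (hg : g ∈ 𝒞[y]) : 𝒞[y] ≤ 𝒞[g] := fun k hk => by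
  obtain ⟨d, hd, h1, e, he, rfl⟩ := h.decomp' hy hg
  rw [cent_mul_center he]
  by_cases h2 : d ∈ center G
  · exact mem_cent1.2 (mem_center_iff.1 h2 k)
  obtain ⟨a, ha, b, hb, rfl⟩ := (isProd_cent (h.cop (h.big h1 h2).dvd)).2.2 k trivial
  have := h.normal
  refine mul_mem (h.comm_of h1 ha (h.inf_central hy ?_ ?_)) hb
  · simpa [mul_assoc] using mul_mem (Normal.conj_mem this a ha d⁻¹) (inv_mem ha)
  · rw [show a * d * a⁻¹ = a * b * d * (a * b)⁻¹ by rw [mul_assoc a b, mem_cent1.1 hb]; group]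
    exact mul_mem (inv_mem hd) (mul_mem (mul_mem hk hd) (inv_mem hk))

theorem frob (hy : cs(y) = m) :
    IsFrobeniusComplement (𝒞[y].map (QuotientGroup.mk' (center G))) ∧
      frobeniusKernel (𝒞[y].map (QuotientGroup.mk' (center G))) =
        (𝒞[x].map (QuotientGroup.mk' (center G)) : Set (G ⧸ center G)) := by
  have hf := QuotientGroup.mk'_surjective (center G)
  have := h.normal
  have : (𝒞[x].map (QuotientGroup.mk' (center G))).Normal := Normal.map this _ hf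
  have nb : ∀ w : G, 1 < cs(w) → 𝒞[w].map (QuotientGroup.mk' (center G)) ≠ ⊥ := fun w hw e =>
    hw.ne' (cs_eq_one_iff.2 (by simpa using (Subgroup.map_eq_bot_iff _).1 e (self_mem_cent1 w)))
  refine frob_of_fpf _ _ (by rw [← Subgroup.map_sup, (isProd_cent (h.cop hy.dvd)).sup_eq,
    map_top_of_surjective _ hf]) (eq_bot_iff.2 ?_) (nb x (h.hx ▸ h.hn)) (nb y (hy ▸ h.hn.trans h.hmn)) ?_
  · rintro _ ⟨⟨a, ha, rfl⟩, b, hb, e⟩
    have h1 : b⁻¹ * a ∈ center G := QuotientGroup.eq.1 e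
    exact (QuotientGroup.eq_one_iff a).2 (h.inf_central hy ha (by
      simpa using mul_mem hb (center_le_centralizer _ h1)))
  · rintro _ ⟨t, ht, rfl⟩ t1 _ ⟨a, ha, rfl⟩ e
    obtain ⟨d, hd, h1, z, hz, rfl⟩ := h.decomp' hy ht
    have h2 : d ∉ center G := fun e => t1 ((QuotientGroup.eq_one_iff _).2 (mul_mem e hz))
    rw [map_mul, show QuotientGroup.mk' (center G) z = 1 from (QuotientGroup.eq_one_iff _).2 hz,
      mul_one] at e
    refine (QuotientGroup.eq_one_iff a).2 (h.inf_central (h.big h1 h2) ha (h.comm_of h1 ha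
      ((QuotientGroup.eq_one_iff _).1 ?_)))
    change QuotientGroup.mk' (center G) _ = 1
    rw [map_mul, map_mul, map_mul, ← e, map_inv, map_inv]; group

end Two

end Cfsg.Agent.H31
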